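import Cfsg.Agent.Lib.Coprime
import Mathlib.GroupTheory.Transfer
import Mathlib.GroupTheory.SpecificGroups.Cyclic
import Cfsg.Prelude.Def_Solvable

/-!
A conjugation invariant generating set `D` of subgroups of order `p`, any two members of which generate the
product of a `q`-group and a member.
-/

set_option autoImplicit false
set_option linter.unusedSectionVars false
set_option linter.style.haveILetI false

namespace CfsgLib.AfterFT.PairGen

open Subgroup CfsgLib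
open scoped Pointwise

universe u v
variable {G : Type u} [Group G]

theorem conj_smul_eq_iff {H : Subgroup G} {g : G} [Finite G] :
    MulAut.conj g • H = H ↔ g ∈ normalizer (H : Set G) := by
  rw [Subgroup.mem_normalizer_iff]
  constructor
  · intro h x
    conv_rhs => rw [← h, mem_conj_smul_iff]
    simp [mul_assoc]
  · intro h
    ext x
    rw [mem_conj_smul_iff]
    simpa [mul_assoc] using h (g⁻¹ * x * g)

section pgroup
variable [Finite G] {p q : ℕ} {K A : Subgroup G}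

theorem disjoint_pq (hp : p.Prime) (hq : q.Prime) (hpq : p ≠ q) (hK : IsPGroup q K) (hA : Nat.card A = p)
    {x : G} (hxK : x ∈ K) (hxA : x ∈ A) : x = 1 := by
  haveI : Fact q.Prime := ⟨hq⟩
  obtain ⟨n, hn⟩ := hK.exists_card_eq
  refine Subgroup.disjoint_def.mp (Subgroup.disjoint_of_coprime_natCard ?_) hxK hxA
  rw [hn, hA]
  exact Nat.Coprime.pow_left _ ((Nat.coprime_primes hq hp).2 (Ne.symm hpq))

theorem eq_one_of_pow (hp : p.Prime) (hq : q.Prime) (hpq : p ≠ q) (hK : IsPGroup q K) {k : G} (hk : k ∈ K)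
    (hkp : k ^ p = 1) : k = 1 := by
  obtain ⟨n, hn⟩ := hK ⟨k, hk⟩
  rw [← orderOf_eq_one_iff]
  refine Nat.eq_one_of_dvd_coprimes ?_ (orderOf_dvd_of_pow_eq_one (congrArg Subtype.val hn))
    (orderOf_dvd_of_pow_eq_one hkp)
  exact Nat.Coprime.pow_left _ ((Nat.coprime_primes hq hp).2 (Ne.symm hpq))

theorem mem_sup_iff (hAK : A ≤ normalizer (K : Set G)) {x : G} :
    x ∈ K ⊔ A ↔ ∃ k ∈ K, ∃ a ∈ A, k * a = x := by
  rw [← SetLike.mem_coe, Subgroup.coe_mul_of_right_le_normalizer_left K A hAK, Set.mem_mul]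
  rfl

theorem pow_mul_mem (hAK : A ≤ normalizer (K : Set G)) {k a : G} (hk : k ∈ K) (ha : a ∈ A) (n : ℕ) :
    (k * a) ^ n * (a ^ n)⁻¹ ∈ K := by
  induction n with
  | zero => simp
  | succ n ih =>
    have h1 : a ^ n * k * (a ^ n)⁻¹ ∈ K := (Subgroup.mem_normalizer_iff.mp (hAK (pow_mem ha n)) k).mp hk
    have e : (k * a) ^ (n + 1) * (a ^ (n + 1))⁻¹ = (k * a) ^ n * (a ^ n)⁻¹ * (a ^ n * k * (a ^ n)⁻¹) := by
      rw [pow_succ, pow_succ]; group
    rw [e]
    exact K.mul_mem ih h1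

/-- The `q`-elements of `K A` lie in `K`. -/
theorem mem_left_of_qElement (hp : p.Prime) (hq : q.Prime) (hpq : p ≠ q) (hA : Nat.card A = p)
    (hAK : A ≤ normalizer (K : Set G)) {g : G} (hg : g ∈ K ⊔ A) {n : ℕ} (hn : g ^ q ^ n = 1) : g ∈ K := by
  obtain ⟨k, hk, a, ha, rfl⟩ := (mem_sup_iff hAK).1 hg
  have h1 := pow_mul_mem hAK hk ha p
  rw [show a ^ p = 1 by
    have := pow_card_eq_one' (x := (⟨a, ha⟩ : A))
    rw [hA] at this
    simpa using congrArg Subtype.val this, inv_one, mul_one] at h1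
  have hc : (orderOf (k * a)).Coprime p :=
    Nat.Coprime.coprime_dvd_left (orderOf_dvd_of_pow_eq_one hn)
      (Nat.Coprime.pow_left _ ((Nat.coprime_primes hq hp).2 (Ne.symm hpq)))
  obtain ⟨m, hm⟩ := exists_pow_eq_self_of_coprime hc.symm
  rw [← hm]
  exact pow_mem h1 m

theorem commute_of_normalize (hp : p.Prime) (hq : q.Prime) (hpq : p ≠ q) (hK : IsPGroup q K)
    (hA : Nat.card A = p) (hAK : A ≤ normalizer (K : Set G)) {k : G} (hk : k ∈ K)
    (hn : k ∈ normalizer (A : Set G)) : ∀ a ∈ A, Commute k a := by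
  intro a ha
  have h1 : k * a * k⁻¹ * a⁻¹ ∈ K := by
    have h2 := (Subgroup.mem_normalizer_iff.mp (hAK ha) _).mp (K.inv_mem hk)
    have := K.mul_mem hk h2
    simpa [mul_assoc] using this
  have h3 : k * a * k⁻¹ * a⁻¹ ∈ A := A.mul_mem ((Subgroup.mem_normalizer_iff.mp hn a).mp ha) (A.inv_mem ha)
  have h4 := disjoint_pq hp hq hpq hK hA h1 h3
  rw [mul_inv_eq_one, mul_inv_eq_iff_eq_mul] at h4
  exact h4

theorem exists_conj_of_card (hp : p.Prime) (hq : q.Prime) (hpq : p ≠ q) (hK : IsPGroup q K)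
    (hA : Nat.card A = p) (hAK : A ≤ normalizer (K : Set G)) {C : Subgroup G} (hC : Nat.card C = p)
    (hCK : C ≤ K ⊔ A) : ∃ k ∈ K, MulAut.conj k • A = C := by
  haveI : Fact p.Prime := ⟨hp⟩
  haveI : Fact q.Prime := ⟨hq⟩
  set L := K ⊔ A with hL
  have hKL : K ≤ L := le_sup_left
  have hAL : A ≤ L := le_sup_right
  haveI : (K.subgroupOf L).Normal :=
    (Subgroup.normal_subgroupOf_iff_le_normalizer hKL).mpr (sup_le le_normalizer hAK)
  obtain ⟨n, hn⟩ := hK.exists_card_eq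
  have hcL : Nat.card L = q ^ n * p := by
    have h1 := (Subgroup.card_mul_index (K.subgroupOf L))
    have h2 : Nat.card L = Nat.card K * Nat.card A := by
      rw [← Nat.card_prod]
      refine (Nat.card_congr (Equiv.ofBijective (fun z : K × A => (⟨z.1 * z.2, mul_mem (hKL z.1.2) (hAL z.2.2)⟩ : L)) ⟨?_, ?_⟩)).symm
      · rintro ⟨k, a⟩ ⟨k', a'⟩ e
        have e' : (k : G) * a = k' * a' := congrArg Subtype.val e
        have hd : (k' : G)⁻¹ * k = a' * (a : G)⁻¹ := by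
          calc (k' : G)⁻¹ * k = (k' : G)⁻¹ * ((k : G) * a) * (a : G)⁻¹ := by group
            _ = _ := by rw [e']; group
        have h1 := disjoint_pq hp hq hpq hK hA (K.mul_mem (K.inv_mem k'.2) k.2) (hd ▸ A.mul_mem a'.2 (A.inv_mem a.2))
        have hk : (k : G) = k' := (inv_mul_eq_one.1 h1).symm
        have ha : (a : G) = a' := mul_left_cancel (hk ▸ e')
        exact Prod.ext (Subtype.ext hk) (Subtype.ext ha)
      · rintro ⟨x, hx⟩
        obtain ⟨k, hk, a, ha, e⟩ := (mem_sup_iff hAK).1 hx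
        exact ⟨(⟨k, hk⟩, ⟨a, ha⟩), Subtype.ext e⟩
    rw [h2, hn, hA]
  have hfac : (Nat.card L).factorization p = 1 := by
    rw [hcL, Nat.factorization_mul (pow_ne_zero _ hq.ne_zero) hp.ne_zero, hq.factorization_pow,
      hp.factorization, Finsupp.add_apply, Finsupp.single_eq_of_ne hpq, Finsupp.single_eq_same, zero_add]
  have hSA : Nat.card (A.subgroupOf L) = p ^ (Nat.card L).factorization p := by
    rw [hfac, pow_one, Nat.card_congr (Subgroup.subgroupOfEquivOfLe hAL).toEquiv, hA]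
  have hSC : Nat.card (C.subgroupOf L) = p ^ (Nat.card L).factorization p := by
    rw [hfac, pow_one, Nat.card_congr (Subgroup.subgroupOfEquivOfLe hCK).toEquiv, hC]
  obtain ⟨g, hg⟩ := MulAction.exists_smul_eq (↥L) (Sylow.ofCard (A.subgroupOf L) hSA) (Sylow.ofCard (C.subgroupOf L) hSC)
  have hg' : MulAut.conj g • A.subgroupOf L = C.subgroupOf L := by
    have := congrArg (fun P : Sylow p L => (P : Subgroup L)) hg
    simpa [Sylow.coe_subgroup_smul] using this
  obtain ⟨k, hk, a, ha, hka⟩ := (mem_sup_iff hAK).1 g.2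
  refine ⟨k, hk, ?_⟩
  have key : MulAut.conj (g : G) • A = C := by
    ext x
    rw [mem_conj_smul_iff]
    constructor
    · intro hx
      have hxL : x ∈ L := by
        have := L.mul_mem (L.mul_mem g.2 (hAL hx)) (L.inv_mem g.2)
        simpa [mul_assoc] using this
      have : (⟨x, hxL⟩ : L) ∈ MulAut.conj g • A.subgroupOf L := by
        rw [mem_conj_smul_iff, Subgroup.mem_subgroupOf]; simpa using hx
      rw [hg', Subgroup.mem_subgroupOf] at this
      exact this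
    · intro hx
      have : (⟨x, hCK hx⟩ : L) ∈ MulAut.conj g • A.subgroupOf L := by
        rw [hg', Subgroup.mem_subgroupOf]; exact hx
      rw [mem_conj_smul_iff, Subgroup.mem_subgroupOf] at this
      simpa using this
  rw [← key, ← hka, ← conj_smul_mul, Subgroup.conj_smul_eq_self_of_mem ha]

end pgroup

/-- The hypothesis. -/
structure Hyp (D : Set (Subgroup G)) (p q : ℕ) : Prop where
  pp : p.Prime
  qp : q.Prime
  p_odd : p ≠ 2
  q_odd : q ≠ 2
  pq : p ≠ q
  card : ∀ A ∈ D, Nat.card A = p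
  inv : ∀ A ∈ D, ∀ g : G, MulAut.conj g • A ∈ D
  gen : sSup D = ⊤
  nonempty : D.Nonempty
  pair : ∀ A ∈ D, ∀ B ∈ D, ∃ K : Subgroup G, IsPGroup q K ∧ A ≤ normalizer (K : Set G) ∧ A ⊔ B = K ⊔ A
  line : ∀ A ∈ D, ∀ B ∈ D, ∀ C ∈ D, ∀ C' ∈ D, C ≤ A ⊔ B → C' ≤ A ⊔ B → C ≠ C' → C ⊔ C' = A ⊔ B

namespace Hyp

variable [Finite G] {D : Set (Subgroup G)} {p q : ℕ} (h : Hyp D p q)
include h

theorem pow_p {A : Subgroup G} (hA : A ∈ D) {a : G} (ha : a ∈ A) : a ^ p = 1 := by
  have := pow_card_eq_one' (x := (⟨a, ha⟩ : A))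
  rw [h.card A hA] at this
  simpa using congrArg Subtype.val this

theorem eq_zpowers {A : Subgroup G} (hA : A ∈ D) {a : G} (ha : a ∈ A) (ha1 : a ≠ 1) : A = zpowers a := by
  haveI : Fact p.Prime := ⟨h.pp⟩
  refine (Subgroup.eq_of_le_of_card_ge (zpowers_le.2 ha) ?_).symm
  rw [h.card A hA, Nat.card_zpowers, orderOf_eq_prime (h.pow_p hA ha) ha1]

theorem exists_ne_one {A : Subgroup G} (hA : A ∈ D) : ∃ a ∈ A, a ≠ (1 : G) := by
  by_contra hc
  push Not at hc
  have h1 := h.card A hA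
  rw [(Subgroup.eq_bot_iff_forall A).2 hc, Subgroup.card_bot] at h1
  exact h.pp.ne_one h1.symm

theorem eq_of_le {A B : Subgroup G} (hA : A ∈ D) (hB : B ∈ D) (hAB : A ≤ B) : A = B :=
  Subgroup.eq_of_le_of_card_ge hAB (by rw [h.card A hA, h.card B hB])

theorem eq_of_commute {A B : Subgroup G} (hA : A ∈ D) (hB : B ∈ D) {a b : G} (ha : a ∈ A) (hb : b ∈ B)
    (ha1 : a ≠ 1) (hb1 : b ≠ 1) (hc : Commute a b) : A = B := by
  obtain ⟨K, hK, hAK, hP⟩ := h.pair A hA B hB
  obtain ⟨k, hk, a', ha', hka⟩ := (mem_sup_iff hAK).1 (hP ▸ (le_sup_right : B ≤ A ⊔ B) hb)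
  have hA' := h.eq_zpowers hA ha ha1
  obtain ⟨i, hi⟩ := Subgroup.mem_zpowers_iff.1 (hA' ▸ ha' : a' ∈ zpowers a)
  have hka' : Commute k a' := by
    have e : k = b * a'⁻¹ := by rw [← hka, mul_inv_cancel_right]
    rw [e, ← hi]
    exact Commute.mul_left (hc.symm.zpow_right i) (((Commute.refl a).zpow_left i).inv_left.zpow_right i)
  have hkp : k ^ p = 1 := by
    have := h.pow_p hB hb
    rwa [← hka, hka'.mul_pow, h.pow_p hA ha', mul_one] at this
  have hk1 : k = 1 := eq_one_of_pow h.pp h.qp h.pq hK hk hkp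
  rw [hk1, one_mul] at hka
  rw [h.eq_zpowers hA (hka ▸ ha') hb1, h.eq_zpowers hB hb hb1]

theorem eq_of_sup_eq {A B : Subgroup G} (hA : A ∈ D) (hB : B ∈ D)
    (hn : B ≤ normalizer (A : Set G)) : B = A := by
  obtain ⟨K, hK, hAK, hP⟩ := h.pair A hA B hB
  obtain ⟨b, hb, hb1⟩ := h.exists_ne_one hB
  obtain ⟨a₁, ha₁, ha₁1⟩ := h.exists_ne_one hA
  obtain ⟨k, hk, a, ha, hka⟩ := (mem_sup_iff hAK).1 (hP ▸ (le_sup_right : B ≤ A ⊔ B) hb)
  have hkn : k ∈ normalizer (A : Set G) := by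
    rw [show k = b * a⁻¹ by rw [← hka, mul_inv_cancel_right]]
    exact mul_mem (hn hb) (le_normalizer (A.inv_mem ha))
  have hc := commute_of_normalize h.pp h.qp h.pq hK (h.card A hA) hAK hk hkn
  refine (h.eq_of_commute hA hB ha₁ hb ha₁1 hb1 ?_).symm
  rw [← hka]
  refine Commute.mul_right (hc a₁ ha₁).symm ?_
  obtain ⟨i, hi⟩ := Subgroup.mem_zpowers_iff.1 (h.eq_zpowers hA ha₁ ha₁1 ▸ ha : a ∈ zpowers a₁)
  exact hi ▸ (Commute.refl a₁).zpow_right i

/-- The conjugate of `A` in a pair containing it. -/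
theorem exists_conj_of_le {A C : Subgroup G} (hA : A ∈ D) (hC : C ∈ D) {K : Subgroup G} (hK : IsPGroup q K)
    (hAK : A ≤ normalizer (K : Set G)) (hCK : C ≤ K ⊔ A) : ∃ k ∈ K, MulAut.conj k • A = C := by
  exact exists_conj_of_card h.pp h.qp h.pq hK (h.card A hA) hAK (h.card C hC) hCK

theorem exists_conj {A B : Subgroup G} (hA : A ∈ D) (hB : B ∈ D) : ∃ k : G, MulAut.conj k • A = B := by
  obtain ⟨K, hK, hAK, hP⟩ := h.pair A hA B hB
  obtain ⟨k, -, hk⟩ := h.exists_conj_of_le hA hB hK hAK (hP ▸ le_sup_right)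
  exact ⟨k, hk⟩

theorem mem_K_of_normalize {A B K : Subgroup G} (hA : A ∈ D) (hK : IsPGroup q K)
    (hAK : A ≤ normalizer (K : Set G)) (hP : A ⊔ B = K ⊔ A) {x : G}
    (hx : MulAut.conj x • (A ⊔ B) = A ⊔ B) {k : G} (hk : k ∈ K) : x * k * x⁻¹ ∈ K := by
  obtain ⟨n, hn⟩ := hK ⟨k, hk⟩
  have hn' : k ^ q ^ n = 1 := congrArg Subtype.val hn
  refine mem_left_of_qElement h.pp h.qp h.pq (h.card A hA) hAK ?_ (n := n) (by rw [conj_pow, hn']; simp)
  rw [← hP, ← hx, mem_conj_smul_iff, hP]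
  exact Subgroup.mem_sup_left (by simpa [mul_assoc] using hk)

theorem conj_sup_eq {A B : Subgroup G} {x : G} (hxA : MulAut.conj x • A = A) (hxB : MulAut.conj x • B = B) :
    MulAut.conj x • (A ⊔ B) = A ⊔ B := by
  rw [Subgroup.smul_sup, hxA, hxB]

/-- An element normalising two members and centralising the first centralises the second. -/
theorem cent_of_normalize {A B : Subgroup G} (hA : A ∈ D) (hB : B ∈ D) {x : G}
    (hxB : MulAut.conj x • B = B) (hxA : ∀ a ∈ A, Commute x a) : ∀ b ∈ B, Commute x b := by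
  intro b hb
  obtain ⟨K, hK, hAK, hP⟩ := h.pair A hA B hB
  obtain ⟨k, hk, a, ha, hka⟩ := (mem_sup_iff hAK).1 (hP ▸ (le_sup_right : B ≤ A ⊔ B) hb)
  have hxA' : MulAut.conj x • A = A := by
    ext y
    rw [mem_conj_smul_iff]
    constructor <;> intro hy
    · have e := (hxA _ hy).eq
      have : x⁻¹ * y * x = y := by
        calc x⁻¹ * y * x = (x⁻¹ * y * x) * x * x⁻¹ := by group
          _ = x * (x⁻¹ * y * x) * x⁻¹ := by rw [e]
          _ = y := by group
      rwa [← this]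
    · rwa [mul_assoc, ← (hxA y hy).eq, inv_mul_cancel_left]
  have hPx := h.conj_sup_eq hxA' hxB
  have h1 : x * b * x⁻¹ * b⁻¹ ∈ B := B.mul_mem (by
    rw [← hxB, mem_conj_smul_iff]; simpa [mul_assoc] using hb) (B.inv_mem hb)
  have h2 : x * b * x⁻¹ * b⁻¹ ∈ K := by
    have e : x * b * x⁻¹ * b⁻¹ = x * k * x⁻¹ * k⁻¹ := by
      rw [← hka]
      have := (hxA a ha).eq
      calc x * (k * a) * x⁻¹ * (k * a)⁻¹ = x * k * x⁻¹ * (x * a * x⁻¹ * a⁻¹) * k⁻¹ := by group
        _ = x * k * x⁻¹ * k⁻¹ := by rw [this]; group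
    rw [e]
    exact K.mul_mem (h.mem_K_of_normalize hA hK hAK hP hPx hk) (K.inv_mem hk)
  have h3 := disjoint_pq h.pp h.qp h.pq hK (h.card B hB) h2 h1
  rw [mul_inv_eq_one, mul_inv_eq_iff_eq_mul] at h3
  exact h3

theorem conj_conj_sup {A B : Subgroup G} {g : G} :
    MulAut.conj g • (A ⊔ B) = MulAut.conj g • A ⊔ MulAut.conj g • B := Subgroup.smul_sup _ _ _

theorem exists_fixed_in_pair {A B : Subgroup G} (hA : A ∈ D) (hB : B ∈ D) {T : Subgroup G}
    (hT : IsPGroup 2 T) (hTP : ∀ t ∈ T, MulAut.conj t • (A ⊔ B) = A ⊔ B) :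
    ∃ C ∈ D, C ≤ A ⊔ B ∧ ∀ t ∈ T, MulAut.conj t • C = C := by
  classical
  haveI : Fact (Nat.Prime 2) := ⟨Nat.prime_two⟩
  haveI : Fact q.Prime := ⟨h.qp⟩
  obtain ⟨K, hK, hAK, hP⟩ := h.pair A hA B hB
  let Ω := {C : Subgroup G // C ∈ D ∧ C ≤ A ⊔ B}
  letI actK : MulAction K Ω :=
    { smul := fun k C => ⟨MulAut.conj (k : G) • C.1, h.inv _ C.2.1 _, by
        have h1 : (k : G) ∈ A ⊔ B := hP ▸ Subgroup.mem_sup_left k.2
        exact (Subgroup.pointwise_smul_le_pointwise_smul_iff.2 C.2.2).trans_eq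
          (Subgroup.conj_smul_eq_self_of_mem h1)⟩
      one_smul := fun C => Subtype.ext (show MulAut.conj ((1 : K) : G) • C.1 = C.1 by simp)
      mul_smul := fun k l C => Subtype.ext (conj_smul_mul (k : G) (l : G) C.1).symm }
  haveI : MulAction.IsPretransitive K Ω := ⟨fun C C' => by
    obtain ⟨k, hk, hkC⟩ := h.exists_conj_of_le hA C.2.1 hK hAK (hP ▸ C.2.2)
    obtain ⟨l, hl, hlC⟩ := h.exists_conj_of_le hA C'.2.1 hK hAK (hP ▸ C'.2.2)
    refine ⟨⟨l * k⁻¹, K.mul_mem hl (K.inv_mem hk)⟩, Subtype.ext ?_⟩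
    show MulAut.conj (l * k⁻¹) • C.1 = C'.1
    rw [← hkC, conj_smul_mul, inv_mul_cancel_right, hlC]⟩
  have hΩ : ¬ 2 ∣ Nat.card Ω := by
    intro h2
    have hd : Nat.card Ω ∣ Nat.card K := by
      rw [← MulAction.index_stabilizer_of_transitive K (⟨A, hA, le_sup_left⟩ : Ω)]
      exact Subgroup.index_dvd_card _
    obtain ⟨n, hn⟩ := hK.exists_card_eq
    exact h.q_odd ((Nat.prime_dvd_prime_iff_eq Nat.prime_two h.qp).1
      (Nat.prime_two.dvd_of_dvd_pow (hn ▸ h2.trans hd))).symm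
  letI actT : MulAction T Ω :=
    { smul := fun t C => ⟨MulAut.conj (t : G) • C.1, h.inv _ C.2.1 _, by
        exact (Subgroup.pointwise_smul_le_pointwise_smul_iff.2 C.2.2).trans_eq (hTP _ t.2)⟩
      one_smul := fun C => Subtype.ext (show MulAut.conj ((1 : T) : G) • C.1 = C.1 by simp)
      mul_smul := fun k l C => Subtype.ext (conj_smul_mul (k : G) (l : G) C.1).symm }
  obtain ⟨C, hC⟩ := hT.nonempty_fixed_point_of_prime_not_dvd_card Ω hΩ
  exact ⟨C.1, C.2.1, C.2.2, fun t ht => congrArg Subtype.val (hC ⟨t, ht⟩)⟩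

/-- Every 2-group normalises a member. -/
theorem exists_fixed : ∀ (n : ℕ) (T : Subgroup G), Nat.card T = 2 ^ n →
    ∃ C ∈ D, ∀ t ∈ T, MulAut.conj t • C = C := by
  intro n
  induction n with
  | zero =>
    intro T hT
    obtain ⟨A, hA⟩ := h.nonempty
    refine ⟨A, hA, fun t ht => ?_⟩
    rw [Subgroup.eq_bot_of_card_eq T (by rw [hT, pow_zero]), Subgroup.mem_bot] at ht
    simp [ht]
  | succ n ih =>
    intro T hT
    haveI : Fact (Nat.Prime 2) := ⟨Nat.prime_two⟩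
    obtain ⟨T₁, hT₁⟩ := Sylow.exists_subgroup_card_pow_prime 2 (G := T) (n := n) (hT ▸ pow_dvd_pow 2 (Nat.le_succ n))
    set T₀ := T₁.map T.subtype
    have hT₀ : Nat.card T₀ = 2 ^ n := by
      rw [Subgroup.card_map_of_injective T.subtype_injective, hT₁]
    have hidx : T₁.index = 2 := by
      have := Subgroup.card_mul_index T₁
      rw [hT₁, hT, pow_succ] at this
      exact Nat.eq_of_mul_eq_mul_left (Nat.pow_pos two_pos) this
    have hT₁n : T₁.Normal := ⟨fun x hx g => by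
      rw [Subgroup.mul_mem_iff_of_index_two hidx, Subgroup.mul_mem_iff_of_index_two hidx, Subgroup.inv_mem_iff]
      simp [hx]⟩
    obtain ⟨B, hB, hfix⟩ := ih T₀ hT₀
    have hle : T₀ ≤ T := Subgroup.map_subtype_le _
    by_cases hall : ∀ g ∈ T, MulAut.conj g • B = B
    · exact ⟨B, hB, hall⟩
    push Not at hall
    obtain ⟨g, hgT, hg⟩ := hall
    have hg₁ : (⟨g, hgT⟩ : T) ∉ T₁ := fun hm => hg (hfix g ⟨_, hm, rfl⟩)
    have hfix' : ∀ t ∈ T₀, MulAut.conj t • MulAut.conj g • B = MulAut.conj g • B := by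
      rintro _ ⟨t, ht, rfl⟩
      have h1 := hfix _ ⟨_, hT₁n.conj_mem t ht (⟨g, hgT⟩ : T)⁻¹, rfl⟩
      simp only [Subgroup.coe_subtype, Subgroup.coe_mul, Subgroup.coe_inv, inv_inv] at h1 ⊢
      conv_rhs => rw [← h1, conj_smul_mul]
      rw [conj_smul_mul]
      congr 2
      group
    have hswap : MulAut.conj g • MulAut.conj g • B = B := by
      rw [conj_smul_mul]
      exact hfix _ ⟨_, Subgroup.mul_self_mem_of_index_two hidx (⟨g, hgT⟩ : T), rfl⟩
    have hpairfix : ∀ t ∈ T, MulAut.conj t • (B ⊔ MulAut.conj g • B) = B ⊔ MulAut.conj g • B := ?_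
    · obtain ⟨C, hC, -, hCfix⟩ := h.exists_fixed_in_pair hB (h.inv B hB g) (T := T) (IsPGroup.of_card hT) hpairfix
      exact ⟨C, hC, hCfix⟩
    intro t ht
    rw [Subgroup.smul_sup]
    by_cases htm : (⟨t, ht⟩ : T) ∈ T₁
    · rw [hfix t ⟨_, htm, rfl⟩, hfix' t ⟨_, htm, rfl⟩]
    · have h1 : t * g⁻¹ ∈ T₀ := ⟨⟨t, ht⟩ * (⟨g, hgT⟩ : T)⁻¹, (Subgroup.mul_mem_iff_of_index_two hidx).2
        (by simp [hg₁, htm]), rfl⟩
      have e : MulAut.conj t • B = MulAut.conj g • B := by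
        rw [← inv_mul_cancel_right t g, ← conj_smul_mul, hfix' _ h1]
      have e' : MulAut.conj t • MulAut.conj g • B = B := by
        conv_lhs => rw [← inv_mul_cancel_right t g, ← conj_smul_mul, hswap, hfix _ h1]
      rw [e, e', sup_comm]

/-- A 2-group normalising two members has a fixed element of `K` conjugating one into the other. -/
theorem coset_lemma {A B : Subgroup G} (hA : A ∈ D) (hB : B ∈ D) {T : Subgroup G} (hT : IsPGroup 2 T)
    (hTA : ∀ t ∈ T, MulAut.conj t • A = A) (hTB : ∀ t ∈ T, MulAut.conj t • B = B) :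
    ∃ k : G, k ∈ A ⊔ B ∧ (∀ t ∈ T, Commute t k) ∧ MulAut.conj k • A = B := by
  classical
  haveI : Fact (Nat.Prime 2) := ⟨Nat.prime_two⟩
  obtain ⟨K, hK, hAK, hP⟩ := h.pair A hA B hB
  obtain ⟨k₀, hk₀, hk₀B⟩ := h.exists_conj_of_le hA hB hK hAK (hP ▸ le_sup_right)
  let Ω := {k : G // k ∈ K ∧ MulAut.conj k • A = B}
  letI actT : MulAction T Ω :=
    { smul := fun t k => ⟨t * k.1 * (t : G)⁻¹,
        h.mem_K_of_normalize hA hK hAK hP (h.conj_sup_eq (hTA _ t.2) (hTB _ t.2)) k.2.1, by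
          rw [← conj_smul_mul, ← conj_smul_mul, hTA _ (T.inv_mem t.2), k.2.2, hTB _ t.2]⟩
      one_smul := fun k => Subtype.ext (show ((1 : T) : G) * k.1 * ((1 : T) : G)⁻¹ = k.1 by simp)
      mul_smul := fun s t k => Subtype.ext (show ((s * t : T) : G) * k.1 * ((s * t : T) : G)⁻¹ = s * (t * k.1 * (t : G)⁻¹) * (s : G)⁻¹ by
        push_cast; group) }
  set S := K ⊓ normalizer (A : Set G) with hS
  have hΩ : ¬ 2 ∣ Nat.card Ω := by
    have e : Nat.card Ω = Nat.card S := by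
      refine Nat.card_congr
        { toFun := fun k => ⟨k₀⁻¹ * k.1, K.mul_mem (K.inv_mem hk₀) k.2.1, ?_⟩
          invFun := fun s => ⟨k₀ * s.1, K.mul_mem hk₀ s.2.1, by
            rw [← conj_smul_mul, conj_smul_eq_iff.2 s.2.2, hk₀B]⟩
          left_inv := fun k => Subtype.ext (mul_inv_cancel_left k₀ k.1)
          right_inv := fun s => Subtype.ext (inv_mul_cancel_left k₀ s.1) }
      apply conj_smul_eq_iff.1
      rw [← conj_smul_mul, k.2.2, ← hk₀B, conj_smul_mul, inv_mul_cancel]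
      simp
    haveI : Fact q.Prime := ⟨h.qp⟩
    obtain ⟨n, hn⟩ := hK.exists_card_eq
    intro h2
    exact h.q_odd ((Nat.prime_dvd_prime_iff_eq Nat.prime_two h.qp).1
      (Nat.prime_two.dvd_of_dvd_pow (hn ▸ (e ▸ h2).trans (Subgroup.card_dvd_of_le (inf_le_left : S ≤ K))))).symm
  obtain ⟨k, hk⟩ := hT.nonempty_fixed_point_of_prime_not_dvd_card Ω hΩ
  refine ⟨k.1, hP ▸ Subgroup.mem_sup_left k.2.1, fun t ht => ?_, k.2.2⟩
  have h1 : t * k.1 * t⁻¹ = k.1 := congrArg Subtype.val (hk ⟨t, ht⟩)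
  rwa [mul_inv_eq_iff_eq_mul] at h1

/-- A 2-element normalising a member centralises it. -/
theorem commute_of_two {A : Subgroup G} (hA : A ∈ D) {x : G} (hx : ∃ n, x ^ 2 ^ n = 1)
    (hxA : MulAut.conj x • A = A) : ∀ a ∈ A, Commute x a := by
  classical
  haveI : Fact (Nat.Prime 2) := ⟨Nat.prime_two⟩
  obtain ⟨P⟩ : Nonempty (Sylow 2 G) := inferInstance
  set T : Subgroup G := (P : Subgroup G)
  obtain ⟨n, hn⟩ := P.2.exists_card_eq
  obtain ⟨A₀, hA₀, hTA⟩ := h.exists_fixed n T hn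
  -- the Sylow subgroup centralises `A₀`
  have hT : ∀ t ∈ T, ∀ a ∈ A₀, Commute t a := by
    haveI : Fact p.Prime := ⟨h.pp⟩
    haveI : IsCyclic A₀ := isCyclic_of_prime_card (h.card A₀ hA₀)
    let act : normalizer (A₀ : Set G) →* (ZMod (Nat.card A₀))ˣ :=
      (IsCyclic.mulAutMulEquiv A₀).toMonoidHom.comp A₀.normalizerMonoidHom
    have hTN : T ≤ normalizer (A₀ : Set G) := fun t ht => conj_smul_eq_iff.1 (hTA t ht)
    let φ : T →* (ZMod (Nat.card A₀))ˣ := act.comp (Subgroup.inclusion hTN)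
    have stable : ∀ (t : G) (ht : t ∈ T) (g : G) (hg : g⁻¹ * t * g ∈ T),
        φ ⟨g⁻¹ * t * g, hg⟩ = φ ⟨t, ht⟩ := by
      intro t ht g hg
      set B := MulAut.conj g • A₀
      have hfB : ∀ z ∈ zpowers t, MulAut.conj z • B = B := fun z hz => by
        obtain ⟨i, rfl⟩ := Subgroup.mem_zpowers_iff.1 hz
        have : g⁻¹ * t ^ i * g ∈ T := by
          have := zpow_mem hg i
          rwa [show g⁻¹ * t * g = g⁻¹ * t * g⁻¹⁻¹ by group, conj_zpow, inv_inv] at this
        calc MulAut.conj (t ^ i) • B = MulAut.conj g • MulAut.conj (g⁻¹ * t ^ i * g) • A₀ := by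
              rw [conj_smul_mul, conj_smul_mul]; congr 2; group
          _ = B := by rw [hTA _ this]
      obtain ⟨k, -, hkt, hkB⟩ := h.coset_lemma hA₀ (h.inv A₀ hA₀ g) (T := zpowers t)
        (P.2.to_le (zpowers_le.2 ht)) (fun z hz => hTA z (zpowers_le.2 ht hz)) hfB
      have hkt' := (hkt t (mem_zpowers t)).eq
      have hm : g⁻¹ * k ∈ normalizer (A₀ : Set G) := by
        apply conj_smul_eq_iff.1
        rw [← conj_smul_mul, hkB, conj_smul_mul, inv_mul_cancel]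
        simp
      have e : (⟨g⁻¹ * t * g, hTN hg⟩ : normalizer (A₀ : Set G)) =
          ⟨g⁻¹ * k, hm⟩ * ⟨t, hTN ht⟩ * (⟨g⁻¹ * k, hm⟩ : normalizer (A₀ : Set G))⁻¹ := by
        apply Subtype.ext
        show g⁻¹ * t * g = g⁻¹ * k * t * (g⁻¹ * k)⁻¹
        rw [mul_assoc g⁻¹ k t, ← hkt']; group
      show act ⟨g⁻¹ * t * g, hTN hg⟩ = act ⟨t, hTN ht⟩
      rw [e, map_mul, map_mul, map_inv, mul_comm (act _) (act ⟨t, _⟩), mul_inv_cancel_right]
    set V := MonoidHom.transfer φ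
    have hV : ∀ g, V g = 1 := by
      have : (⊤ : Subgroup G) ≤ V.ker := by
        rw [← h.gen, sSup_le_iff]
        intro B hB b hb
        rw [MonoidHom.mem_ker, ← orderOf_eq_one_iff]
        refine Nat.eq_one_of_dvd_coprimes ?_ (orderOf_dvd_of_pow_eq_one (by rw [← map_pow, h.pow_p hB hb, map_one]))
          (_root_.orderOf_dvd_natCard _)
        rw [Nat.card_eq_fintype_card, ZMod.card_units_eq_totient, h.card A₀ hA₀, Nat.totient_prime h.pp,
          h.pp.coprime_iff_not_dvd]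
        intro hd
        have := Nat.le_of_dvd (by have := h.pp.two_le; omega) hd
        have := h.pp.two_le
        omega
      exact fun g => this (mem_top g)
    intro t ht
    have hVt : V t = φ ⟨t, ht⟩ ^ T.index := by
      letI := T.fintypeQuotientOfFiniteIndex
      show MonoidHom.transfer φ t = _
      rw [MonoidHom.transfer_eq_prod_quotient_orbitRel_zpowers_quot, Subgroup.index_eq_card, Nat.card_eq_fintype_card (α := G ⧸ T),
        Fintype.card_congr (MulAction.selfEquivSigmaOrbits (zpowers t) (G ⧸ T)), Fintype.card_sigma,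
        ← Finset.prod_pow_eq_pow_sum]
      refine Finset.prod_congr rfl fun i _ => ?_
      have e : Function.minimalPeriod (t • ·) i.out = Fintype.card (MulAction.orbit (zpowers t) i.out) :=
        MulAction.minimalPeriod_eq_card t i.out
      rw [← map_pow]
      convert stable (t ^ Function.minimalPeriod (t • ·) i.out) (pow_mem ht _) i.out.out (QuotientGroup.out_conj_pow_minimalPeriod_mem T t i.out) using 3
      rw [SubgroupClass.coe_pow, ← e]
    have h1 : φ ⟨t, ht⟩ = 1 := by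
      rw [← orderOf_eq_one_iff]
      refine Nat.eq_one_of_dvd_coprimes ?_ ((orderOf_map_dvd φ _).trans (_root_.orderOf_dvd_natCard (⟨t, ht⟩ : T)))
        (orderOf_dvd_of_pow_eq_one (hVt.symm.trans (hV t)))
      rw [show Nat.card T = 2 ^ n from hn]
      exact Nat.Coprime.pow_left _ (Nat.prime_two.coprime_iff_not_dvd.2 P.not_dvd_index)
    have h2 : A₀.normalizerMonoidHom ⟨t, hTN ht⟩ = 1 := by
      have : (IsCyclic.mulAutMulEquiv A₀) (A₀.normalizerMonoidHom ⟨t, hTN ht⟩) = 1 := h1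
      simpa using this
    intro a ha
    have := congrArg Subtype.val (DFunLike.congr_fun h2 ⟨a, ha⟩)
    simp at this
    exact mul_inv_eq_iff_eq_mul.1 this
  obtain ⟨m, hm⟩ := hx
  have hX : IsPGroup 2 (zpowers x) := by
    intro z
    obtain ⟨i, hi⟩ := Subgroup.mem_zpowers_iff.1 z.2
    refine ⟨m, Subtype.ext ?_⟩
    rw [SubgroupClass.coe_pow, ← hi, ← zpow_natCast, ← zpow_mul, mul_comm, zpow_mul, zpow_natCast, hm]
    simp
  obtain ⟨Q, hQ⟩ := hX.exists_le_sylow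
  obtain ⟨g, hg⟩ := MulAction.exists_smul_eq G Q P
  have hgx : g * x * g⁻¹ ∈ T := by
    show g * x * g⁻¹ ∈ (P : Subgroup G)
    rw [← hg, Sylow.coe_subgroup_smul, mem_conj_smul_iff]
    simpa [mul_assoc] using hQ (mem_zpowers x)
  have hgA : MulAut.conj (g * x * g⁻¹) • MulAut.conj g • A = MulAut.conj g • A := by
    rw [conj_smul_mul, inv_mul_cancel_right, ← conj_smul_mul, hxA]
  intro a ha
  have h1 := (h.cent_of_normalize hA₀ (h.inv A hA g) hgA (fun a ha => hT _ hgx a ha) (g * a * g⁻¹)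
    (by rw [mem_conj_smul_iff]; simpa [mul_assoc] using ha)).eq
  show x * a = a * x
  calc x * a = g⁻¹ * (g * x * g⁻¹ * (g * a * g⁻¹)) * g := by group
    _ = g⁻¹ * (g * a * g⁻¹ * (g * x * g⁻¹)) * g := by rw [h1]
    _ = a * x := by group

end Hyp

/-- The members inside a subgroup generate it. -/
def IsGen (D : Set (Subgroup G)) (J : Subgroup G) : Prop := J ≤ sSup {A | A ∈ D ∧ A ≤ J}

/-- The subgroup generated by the members inside a subgroup. -/
def core (D : Set (Subgroup G)) (J : Subgroup G) : Subgroup G := sSup {A | A ∈ D ∧ A ≤ J}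

theorem core_le (D : Set (Subgroup G)) (J : Subgroup G) : core D J ≤ J := sSup_le fun _ hA => hA.2

theorem le_core {D : Set (Subgroup G)} {J A : Subgroup G} (hA : A ∈ D) (hAJ : A ≤ J) : A ≤ core D J :=
  le_sSup ⟨hA, hAJ⟩

theorem isGen_core (D : Set (Subgroup G)) (J : Subgroup G) : IsGen D (core D J) :=
  sSup_le fun _ hA => le_sSup ⟨hA.1, le_core hA.1 hA.2⟩

theorem core_eq {D : Set (Subgroup G)} {J : Subgroup G} (hJ : IsGen D J) : core D J = J :=
  le_antisymm (core_le D J) hJ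

/-- The members inside `J`, as subgroups of `J`. -/
def subD (D : Set (Subgroup G)) (J : Subgroup G) : Set (Subgroup J) := {A | A.map J.subtype ∈ D}

/-- The pairs are Frobenius with abelian kernels. -/
def Triv (D : Set (Subgroup G)) (q : ℕ) : Prop :=
  ∀ A ∈ D, ∀ B ∈ D, ∀ K : Subgroup G, IsPGroup q K → A ≤ normalizer (K : Set G) → A ⊔ B = K ⊔ A →
    (∀ k ∈ K, ∀ l ∈ K, Commute k l) ∧ (∀ k ∈ K, (∀ a ∈ A, Commute k a) → k = 1)

/-- In every subgroup `Q A` generated by members the fixed points of `A` in `Q` are central and `A` centralises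
the commutators of `Q`. -/
def Special (D : Set (Subgroup G)) (q : ℕ) : Prop :=
  ∀ J Q A : Subgroup G, A ∈ D → IsGen D J → IsPGroup q Q → J ≤ normalizer (Q : Set G) → Q ⊔ A = J →
    (∀ c ∈ Q, (∀ a ∈ A, Commute c a) → ∀ x ∈ J, Commute c x) ∧
      (∀ x ∈ Q, ∀ y ∈ Q, ∀ a ∈ A, Commute (x * y * x⁻¹ * y⁻¹) a)

theorem map_subgroupOf_eq {J A : Subgroup G} (hA : A ≤ J) : (A.subgroupOf J).map J.subtype = A :=
  Subgroup.map_subgroupOf_eq_of_le hA

theorem card_map_subtype {J : Subgroup G} (A : Subgroup J) : Nat.card (A.map J.subtype) = Nat.card A :=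
  Subgroup.card_map_of_injective J.subtype_injective

theorem map_subtype_normalizer {J : Subgroup G} {A K : Subgroup J} :
    A.map J.subtype ≤ normalizer ((K.map J.subtype : Subgroup G) : Set G) ↔
      A ≤ normalizer (K : Set J) := by
  constructor
  · intro h a ha
    rw [Subgroup.mem_normalizer_iff]
    intro x
    have := Subgroup.mem_normalizer_iff.mp (h ⟨a, ha, rfl⟩) (x : G)
    rwa [Subgroup.coe_subtype, ← Subgroup.coe_inv, ← Subgroup.coe_mul, ← Subgroup.coe_mul,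
      ← Subgroup.coe_subtype, Subgroup.mem_map_iff_mem J.subtype_injective,
      Subgroup.mem_map_iff_mem J.subtype_injective] at this
  · exact fun h => (Subgroup.map_mono h).trans (Subgroup.le_normalizer_map J.subtype)

theorem map_conj_smul {H : Type v} [Group H] (f : G →* H) (g : G) (K : Subgroup G) :
    (MulAut.conj g • K).map f = MulAut.conj (f g) • K.map f := by
  ext x
  rw [mem_conj_smul_iff]
  constructor
  · rintro ⟨y, hy, rfl⟩
    rw [SetLike.mem_coe, mem_conj_smul_iff] at hy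
    exact ⟨_, hy, by simp⟩
  · rintro ⟨y, hy, e⟩
    refine ⟨g * y * g⁻¹, ?_, by rw [map_mul, map_mul, e, map_inv]; group⟩
    rw [SetLike.mem_coe, mem_conj_smul_iff]
    simpa [mul_assoc] using hy

namespace Hyp

variable [Finite G] {D : Set (Subgroup G)} {p q : ℕ} (h : Hyp D p q)
include h

theorem eq_top_of_forall_le {J : Subgroup G} (hJ : ∀ A ∈ D, A ≤ J) : J = ⊤ :=
  top_le_iff.1 (h.gen ▸ sSup_le hJ)

theorem K_unique {A B K K' : Subgroup G} (hA : A ∈ D) (hK : IsPGroup q K) (hAK : A ≤ normalizer (K : Set G))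
    (hP : A ⊔ B = K ⊔ A) (hK' : IsPGroup q K') (hK'P : K' ≤ A ⊔ B) : K' ≤ K := by
  intro k hk
  obtain ⟨n, hn⟩ := hK' ⟨k, hk⟩
  exact mem_left_of_qElement h.pp h.qp h.pq (h.card A hA) hAK (hP ▸ hK'P hk) (congrArg Subtype.val hn)

theorem sub {J : Subgroup G} (hJ : IsGen D J) (hne : ∃ A ∈ D, A ≤ J) : Hyp (subD D J) p q where
  pp := h.pp
  qp := h.qp
  p_odd := h.p_odd
  q_odd := h.q_odd
  pq := h.pq
  card A hA := by rw [← card_map_subtype, h.card _ hA]
  inv A hA g := by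
    show (MulAut.conj g • A).map J.subtype ∈ D
    rw [map_conj_smul]
    exact h.inv _ hA _
  gen := by
    rw [eq_top_iff]
    intro x _
    have hx : (x : G) ∈ (sSup (subD D J)).map J.subtype := by
      refine (sSup_le fun A hA => ?_ : sSup {A | A ∈ D ∧ A ≤ J} ≤ _) (hJ x.2)
      calc A = (A.subgroupOf J).map J.subtype := (map_subgroupOf_eq hA.2).symm
        _ ≤ _ := Subgroup.map_mono (le_sSup (show (A.subgroupOf J).map J.subtype ∈ D by
          rw [map_subgroupOf_eq hA.2]; exact hA.1))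
    exact (Subgroup.mem_map_iff_mem J.subtype_injective).1 hx
  nonempty := by
    obtain ⟨A, hA, hAJ⟩ := hne
    exact ⟨A.subgroupOf J, show (A.subgroupOf J).map J.subtype ∈ D by rw [map_subgroupOf_eq hAJ]; exact hA⟩
  pair A hA B hB := by
    obtain ⟨K, hK, hAK, hP⟩ := h.pair _ hA _ hB
    have hKJ : K ≤ J := by
      refine le_trans (le_sup_left.trans_eq hP.symm) ?_
      rw [← Subgroup.map_sup]; exact Subgroup.map_subtype_le _
    refine ⟨K.subgroupOf J, hK.comap_of_injective _ J.subtype_injective, ?_, ?_⟩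
    · rw [← map_subtype_normalizer, map_subgroupOf_eq hKJ]
      exact hAK
    · apply Subgroup.map_injective J.subtype_injective
      rw [Subgroup.map_sup, Subgroup.map_sup, map_subgroupOf_eq hKJ]
      exact hP
  line A hA B hB C hC C' hC' hCle hC'le hne := by
    apply Subgroup.map_injective J.subtype_injective
    rw [Subgroup.map_sup, Subgroup.map_sup]
    exact h.line _ hA _ hB _ hC _ hC' ((Subgroup.map_mono hCle).trans_eq (Subgroup.map_sup ..))
      ((Subgroup.map_mono hC'le).trans_eq (Subgroup.map_sup ..))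
      fun e => hne (Subgroup.map_injective J.subtype_injective e)

theorem sub_triv (hT : Triv D q) {J : Subgroup G} : Triv (subD D J) q := by
  intro A hA B hB K hK hAK hP
  obtain ⟨h1, h2⟩ := hT _ hA _ hB (K.map J.subtype) (hK.map _) (map_subtype_normalizer.2 hAK)
    (by rw [← Subgroup.map_sup, hP, Subgroup.map_sup])
  refine ⟨fun k hk l hl => Subtype.ext (h1 _ ⟨k, hk, rfl⟩ _ ⟨l, hl, rfl⟩).eq, fun k hk hc => Subtype.ext ?_⟩
  refine h2 _ ⟨k, hk, rfl⟩ ?_
  rintro _ ⟨a, ha, rfl⟩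
  exact congrArg Subtype.val (hc a ha).eq

theorem sub_special (hS : Special D q) {J : Subgroup G} : Special (subD D J) q := by
  intro J₁ Q A hA hgen hQ hn hJ
  have hgen' : IsGen D (J₁.map J.subtype) := by
    refine (Subgroup.map_mono hgen).trans ?_
    rw [Subgroup.map_le_iff_le_comap]
    exact sSup_le fun B hB => Subgroup.map_le_iff_le_comap.1 (le_sSup ⟨hB.1, Subgroup.map_mono hB.2⟩)
  obtain ⟨h1, h2⟩ := hS _ (Q.map J.subtype) _ hA hgen' (hQ.map _) (map_subtype_normalizer.2 hn)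
    (by rw [← Subgroup.map_sup, hJ])
  refine ⟨fun c hc hca x hx => Subtype.ext ?_, fun x hx y hy a ha => Subtype.ext ?_⟩
  · refine (h1 _ ⟨c, hc, rfl⟩ ?_ _ ⟨x, hx, rfl⟩).eq
    rintro _ ⟨a, ha, rfl⟩
    exact congrArg Subtype.val (hca a ha).eq
  · exact (h2 _ ⟨x, hx, rfl⟩ _ ⟨y, hy, rfl⟩ _ ⟨a, ha, rfl⟩).eq

section map

variable {H : Type u} [Group H] [Finite H] (f : G →* H)

theorem card_map (hker : ∀ A ∈ D, ¬ A ≤ f.ker) {A : Subgroup G} (hA : A ∈ D) : Nat.card (A.map f) = p := by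
  haveI : Fact p.Prime := ⟨h.pp⟩
  have hd : Nat.card (A.map f) ∣ p := h.card A hA ▸ Subgroup.card_map_dvd A f
  refine ((Nat.dvd_prime h.pp).1 hd).resolve_left fun e => hker A hA ?_
  rw [← Subgroup.map_eq_bot_iff]
  exact Subgroup.eq_bot_of_card_eq _ e

theorem map_pair_le (hker : ∀ A ∈ D, ¬ A ≤ f.ker) {A B C' K : Subgroup G} {Cm : Subgroup H} (hA : A ∈ D)
    (hC : C' ∈ D) (hCm : C'.map f = Cm) (hK : IsPGroup q K) (hAK : A ≤ normalizer (K : Set G))
    (hP : A ⊔ B = K ⊔ A) (hle : Cm ≤ (A ⊔ B).map f) : ∃ C ∈ D, C ≤ A ⊔ B ∧ C.map f = Cm := by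
  rw [hP, Subgroup.map_sup] at hle
  obtain ⟨_, ⟨k, hk, rfl⟩, hkC⟩ := exists_conj_of_card h.pp h.qp h.pq (hK.map f) (h.card_map f hker hA)
    ((Subgroup.map_mono hAK).trans (Subgroup.le_normalizer_map f)) (hCm ▸ h.card_map f hker hC) hle
  refine ⟨MulAut.conj k • A, h.inv A hA k, ?_, by rw [map_conj_smul, hkC]⟩
  intro x hx
  rw [mem_conj_smul_iff] at hx
  have hk' : k ∈ A ⊔ B := hP ▸ Subgroup.mem_sup_left hk
  have := mul_mem (mul_mem hk' (Subgroup.mem_sup_left hx : _ ∈ A ⊔ B)) (inv_mem hk')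
  simpa [mul_assoc] using this

theorem map (hf : Function.Surjective f) (hker : ∀ A ∈ D, ¬ A ≤ f.ker) :
    Hyp (Subgroup.map f '' D) p q where
  pp := h.pp
  qp := h.qp
  p_odd := h.p_odd
  q_odd := h.q_odd
  pq := h.pq
  card := by rintro _ ⟨A, hA, rfl⟩; exact h.card_map f hker hA
  inv := by
    rintro _ ⟨A, hA, rfl⟩ g
    obtain ⟨g, rfl⟩ := hf g
    exact ⟨_, h.inv A hA g, map_conj_smul f g A⟩
  gen := by
    rw [eq_top_iff, ← MonoidHom.range_eq_top.2 hf, MonoidHom.range_eq_map, ← h.gen,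
      Subgroup.map_le_iff_le_comap]
    exact sSup_le fun A hA => Subgroup.map_le_iff_le_comap.1 (le_sSup ⟨A, hA, rfl⟩)
  nonempty := h.nonempty.image _
  pair := by
    rintro _ ⟨A, hA, rfl⟩ _ ⟨B, hB, rfl⟩
    obtain ⟨K, hK, hAK, hP⟩ := h.pair A hA B hB
    exact ⟨K.map f, hK.map f, (Subgroup.map_mono hAK).trans (Subgroup.le_normalizer_map f),
      by rw [← Subgroup.map_sup, hP, Subgroup.map_sup]⟩
  line := by
    rintro _ ⟨A, hA, rfl⟩ _ ⟨B, hB, rfl⟩ _ ⟨C, hC, rfl⟩ _ ⟨C', hC', rfl⟩ h1 h2 hne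
    obtain ⟨K, hK, hAK, hP⟩ := h.pair A hA B hB
    rw [← Subgroup.map_sup] at h1 h2
    obtain ⟨C₁, hC₁, hC₁le, e₁⟩ := h.map_pair_le f hker hA hC rfl hK hAK hP h1
    obtain ⟨C₂, hC₂, hC₂le, e₂⟩ := h.map_pair_le f hker hA hC' rfl hK hAK hP h2
    rw [← e₁, ← e₂, ← Subgroup.map_sup, ← Subgroup.map_sup,
      h.line A hA B hB C₁ hC₁ C₂ hC₂ hC₁le hC₂le fun e => hne (by rw [← e₁, ← e₂, e])]

theorem map_triv (hT : Triv D q) (hker : ∀ A ∈ D, ¬ A ≤ f.ker) (hf : Function.Surjective f) :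
    Triv (Subgroup.map f '' D) q := by
  rintro _ ⟨A, hA, rfl⟩ _ ⟨B, hB, rfl⟩ K' hK' hAK' hP'
  obtain ⟨K, hK, hAK, hP⟩ := h.pair A hA B hB
  obtain ⟨h1, h2⟩ := hT A hA B hB K hK hAK hP
  have hP2 : A.map f ⊔ B.map f = K.map f ⊔ A.map f := by rw [← Subgroup.map_sup, hP, Subgroup.map_sup]
  have hle : K' ≤ K.map f := (h.map f hf hker).K_unique ⟨A, hA, rfl⟩ (hK.map f)
    ((Subgroup.map_mono hAK).trans (Subgroup.le_normalizer_map f)) hP2 hK' (hP' ▸ le_sup_left)
  refine ⟨?_, ?_⟩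
  · intro k hk l hl
    obtain ⟨k, hk', rfl⟩ := hle hk
    obtain ⟨l, hl', rfl⟩ := hle hl
    exact (h1 k hk' l hl').map f
  intro k hk hc
  obtain ⟨k, hk', rfl⟩ := hle hk
  haveI : Fact p.Prime := ⟨h.pp⟩
  haveI : Fact q.Prime := ⟨h.qp⟩
  have hsolv : Group.IsSolvable A := by
    haveI : Group.IsNilpotent A := (IsPGroup.of_card (p := p) (n := 1) (by rw [h.card A hA, pow_one])).isNilpotent
    infer_instance
  obtain ⟨n, hn⟩ := hK.exists_card_eq
  obtain ⟨c, ⟨hcK, hcA⟩, hck⟩ := CfsgLib.coprime_fixed_quotient (N := K ⊓ f.ker) hAK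
    (by rw [h.card A hA, hn]; exact Nat.Coprime.pow_right _ ((Nat.coprime_primes h.pp h.qp).2 h.pq))
    (Or.inl hsolv) inf_le_left
    ((le_inf le_normalizer ((le_top).trans_eq (Subgroup.normalizer_eq_top f.ker).symm)).trans
      Subgroup.inf_normalizer_le_normalizer_inf)
    ((le_inf hAK ((le_top).trans_eq (Subgroup.normalizer_eq_top f.ker).symm)).trans
      Subgroup.inf_normalizer_le_normalizer_inf)
    hk' (fun a ha => ⟨by
      have := K.mul_mem ((Subgroup.mem_normalizer_iff.mp (hAK ha) k).mp hk') (K.inv_mem hk')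
      simpa [mul_assoc] using this, by
      show a * k * a⁻¹ * k⁻¹ ∈ f.ker
      rw [MonoidHom.mem_ker, map_mul, map_mul, map_mul, map_inv, map_inv,
        ← (hc (f a) ⟨a, ha, rfl⟩).eq]
      group⟩)
  have hc1 : c = 1 := h2 c hcK fun a ha => (Subgroup.mem_centralizer_iff.1 hcA a ha).symm
  rw [hc1, mul_one] at hck
  simpa using hck.2

end map

end Hyp

end CfsgLib.AfterFT.PairGen
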