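import Cfsg.Agent.Lib.AfterFT.PairGen.Uniq
import Cfsg.Agent.Lib.ZStar.Main

/-!
Involutions in a minimal group: their fixed members and the unique maximal generated subgroup above them.
-/

set_option autoImplicit false
set_option linter.unusedSectionVars false
set_option linter.style.haveILetI false
set_option maxHeartbeats 800000

namespace CfsgLib.AfterFT.PairGen

open Cfsg Subgroup CfsgLib
open scoped Pointwise commutatorElement

universe u
variable {G : Type u} [Group G]

theorem mul_self_of_two {y : G} (hy : orderOf y = 2) : y * y = 1 := by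
  have := pow_orderOf_eq_one y
  rwa [hy, pow_two] at this

theorem inv_of_two {y : G} (hy : orderOf y = 2) : y⁻¹ = y :=
  inv_eq_of_mul_eq_one_right (mul_self_of_two hy)

theorem isPGroup_two_zpowers {y : G} (hy : orderOf y = 2) : IsPGroup 2 (zpowers y) :=
  IsPGroup.of_card (n := 1) (by rw [Nat.card_zpowers, hy, pow_one])

theorem smul_of_mem_zpowers [Finite G] {y : G} {A : Subgroup G} (h : MulAut.conj y • A = A) :
    ∀ t ∈ zpowers y, MulAut.conj t • A = A := fun t ht =>
  conj_smul_eq_iff.2 (zpowers_le.2 (conj_smul_eq_iff.1 h) ht)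

theorem conj_of_commute [Finite G] {A : Subgroup G} {x : G} (h : ∀ a ∈ A, Commute x a) :
    MulAut.conj x • A = A := by
  refine Subgroup.eq_of_le_of_card_ge (fun a ha => ?_) (card_conj_smul x A).ge
  rw [mem_conj_smul_iff] at ha
  have := h _ ha
  rw [show a = x * (x⁻¹ * a * x) * x⁻¹ by group, this.eq, mul_inv_cancel_right]
  exact ha

/-- An element of odd order is the square of one of its powers. -/
theorem exists_sqrt_pow {u : G} (h : Odd (orderOf u)) : ∃ m : ℕ, (u ^ m) * (u ^ m) = u := by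
  obtain ⟨k, hk⟩ := h
  refine ⟨k + 1, ?_⟩
  rw [← pow_add, show k + 1 + (k + 1) = orderOf u + 1 by omega, pow_succ, pow_orderOf_eq_one, one_mul]

theorem sup_swap {A : Subgroup G} {y : G} (hy : orderOf y = 2) :
    MulAut.conj y • (A ⊔ MulAut.conj y • A) = A ⊔ MulAut.conj y • A := by
  rw [Subgroup.smul_sup, conj_smul_mul, mul_self_of_two hy]
  simp [sup_comm]

/-- A subgroup of odd order normalised by `C(y)` inside it lies in the odd core of `C(y)`. -/
theorem le_centralizerPPrimeCore [Finite G] {y : G} {N : Subgroup G} (hN : N ≤ centralizer ({y} : Set G))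
    (hodd : Odd (Nat.card N)) (hn : centralizer ({y} : Set G) ≤ normalizer (N : Set G)) :
    N ≤ centralizerPPrimeCore 2 y := by
  set C := centralizer ({y} : Set G)
  haveI : (N.subgroupOf C).Normal := (Subgroup.normal_subgroupOf_iff_le_normalizer hN).mpr hn
  have hle : N.subgroupOf C ≤ pPrimeCore 2 C := CfsgLib.le_pPrimeCore (by
    rw [Nat.card_congr (Subgroup.subgroupOfEquivOfLe hN).toEquiv]
    exact Nat.coprime_two_right.2 hodd)
  exact (map_subgroupOf_eq hN).ge.trans (Subgroup.map_mono hle)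

namespace Min

variable [Finite G] {D : Set (Subgroup G)} {p q : ℕ} (h : Min D p q)
include h

theorem commute_of_fix {y : G} (hy : orderOf y = 2) {A : Subgroup G} (hA : A ∈ D)
    (hyA : MulAut.conj y • A = A) : ∀ a ∈ A, Commute y a :=
  h.hyp.commute_of_two hA ⟨1, by rw [pow_one, pow_two, mul_self_of_two hy]⟩ hyA

theorem fix_iff {y : G} (hy : orderOf y = 2) {A : Subgroup G} (hA : A ∈ D) :
    A ≤ fixCore D y ↔ MulAut.conj y • A = A := by
  refine ⟨fun hle => conj_of_commute fun a ha => ?_, fun hfix => h.le_fixCore hA (h.commute_of_fix hy hA hfix)⟩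
  exact (Subgroup.mem_centralizer_singleton_iff.1 (core_le D _ (hle ha))).symm

theorem exists_fix {y : G} (hy : orderOf y = 2) : ∃ A ∈ D, MulAut.conj y • A = A := by
  obtain ⟨A, hA, hfix⟩ := h.hyp.exists_fixed 1 (zpowers y) (by rw [Nat.card_zpowers, hy, pow_one])
  exact ⟨A, hA, hfix y (mem_zpowers y)⟩

theorem exists_fix_pair {y : G} (hy : orderOf y = 2) {B : Subgroup G} (hB : B ∈ D) :
    ∃ C ∈ D, MulAut.conj y • C = C ∧ C ≤ B ⊔ MulAut.conj y • B := by
  obtain ⟨C, hC, hle, hfix⟩ := h.hyp.exists_fixed_in_pair hB (h.hyp.inv B hB y) (isPGroup_two_zpowers hy)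
    (smul_of_mem_zpowers (sup_swap hy))
  exact ⟨C, hC, hfix y (mem_zpowers y), hle⟩

/-- A generated subgroup above the fixed members is invariant. -/
theorem stable {y : G} (hy : orderOf y = 2) {J : Subgroup G} (hJ : IsGen D J) (hle : fixCore D y ≤ J) :
    MulAut.conj y • J = J := by
  refine Subgroup.eq_of_le_of_card_ge ?_ (card_conj_smul y J).ge
  intro x hx
  rw [mem_conj_smul_iff] at hx
  suffices hmem : J ≤ J.comap (MulAut.conj y).toMonoidHom by
    have := hmem hx
    rw [Subgroup.mem_comap, MulEquiv.coe_toMonoidHom, MulAut.conj_apply] at this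
    simpa [mul_assoc] using this
  refine hJ.trans (sSup_le fun B hB b hb => ?_)
  rw [Subgroup.mem_comap, MulEquiv.coe_toMonoidHom, MulAut.conj_apply]
  have hb' : y * b * y⁻¹ ∈ MulAut.conj y • B := by
    rw [mem_conj_smul_iff]; simpa [mul_assoc] using hb
  by_cases hfix : MulAut.conj y • B = B
  · exact hB.2 (hfix ▸ hb')
  obtain ⟨C, hC, hCfix, hCle⟩ := h.exists_fix_pair hy hB.1
  have hne : C ≠ B := fun e => hfix (e ▸ hCfix)
  have hline := h.hyp.line B hB.1 _ (h.hyp.inv B hB.1 y) C hC B hB.1 hCle le_sup_left hne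
  exact (sup_le (((h.fix_iff hy hC).2 hCfix).trans hle) hB.2 : C ⊔ B ≤ J)
    (hline ▸ Subgroup.mem_sup_right hb')

theorem fixCore_core {y : G} (hy : orderOf y = 2) : fixCore D y ≤ centralizerPPrimeCore 2 y := by
  have hy1 : y ≠ 1 := fun e => by rw [e, orderOf_one] at hy; norm_num at hy
  refine le_centralizerPPrimeCore (core_le D _) (h.sub_odd _ (isGen_core _ _) (h.fixCore_ne_top hy1)) fun g hg => ?_
  exact conj_smul_eq_iff.1 (h.conj_fixCore (Subgroup.mem_centralizer_singleton_iff.1 hg))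

/-- Every generator of a member times `y` is conjugate to an element of `y O(C(y))`. -/
theorem exists_core_conj {y : G} (hy : orderOf y = 2)
    (hfixK : ∀ C ∈ D, ∀ B ∈ D, C ≠ B → MulAut.conj y • C = C → MulAut.conj y • (C ⊔ B) = C ⊔ B →
      ∀ K : Subgroup G, IsPGroup q K → C ≤ normalizer (K : Set G) → C ⊔ B = K ⊔ C → ∀ k ∈ K, Commute y k →
        (∀ a ∈ C, Commute k a) → k ∈ centralizerPPrimeCore 2 y) :
    ∀ B ∈ D, ∀ b ∈ B, ∃ w ∈ centralizerPPrimeCore 2 y, IsConj (b * y) (y * w) := by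
  intro B hB b hb
  by_cases hfix : MulAut.conj y • B = B
  · refine ⟨b, h.fixCore_core hy ((h.fix_iff hy hB).2 hfix hb), ?_⟩
    rw [(h.commute_of_fix hy hB hfix b hb).eq]
  obtain ⟨C, hC, hCfix, hCle⟩ := h.exists_fix_pair hy hB
  have hCB : C ≠ B := fun e => hfix (e ▸ hCfix)
  have hline := h.hyp.line B hB _ (h.hyp.inv B hB y) C hC B hB hCle le_sup_left hCB
  have hPy : MulAut.conj y • (C ⊔ B) = C ⊔ B := by rw [hline]; exact sup_swap hy
  obtain ⟨K, hK, hCK, hP⟩ := h.hyp.pair C hC B hB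
  have hodd : Odd (Nat.card (C ⊔ B : Subgroup G)) := by
    rw [hP]; exact h.hyp.odd_of_sup hC hK hCK
  have hconjP : ∀ x ∈ C ⊔ B, y * x * y⁻¹ ∈ C ⊔ B := fun x hx =>
    (Subgroup.mem_normalizer_iff.mp (conj_smul_eq_iff.1 hPy) x).mp hx
  have hordP : ∀ x ∈ C ⊔ B, Odd (orderOf x) := fun x hx => hodd.of_dvd_nat (Subgroup.orderOf_dvd_natCard _ hx)
  have hbP : b ∈ C ⊔ B := Subgroup.mem_sup_right hb
  set g := b * y with hg
  have hgg : g * g ∈ C ⊔ B := by
    rw [show g * g = b * (y * b * y⁻¹) by rw [hg, inv_of_two hy]; group]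
    exact mul_mem hbP (hconjP b hbP)
  obtain ⟨n, hn⟩ := hordP _ hgg
  set u := g * (g * g) ^ n with hu
  have hgu : Commute g u := (Commute.refl g).mul_right (((Commute.refl g).mul_right (Commute.refl g)).pow_right n)
  have huu : u * u = 1 := by
    have hc : Commute g ((g * g) ^ n) := (((Commute.refl g).mul_right (Commute.refl g)).pow_right n)
    calc u * u = g * ((g * g) ^ n * g) * (g * g) ^ n := by rw [hu]; group
      _ = g * (g * (g * g) ^ n) * (g * g) ^ n := by rw [hc.eq]
      _ = (g * g) * ((g * g) ^ n * (g * g) ^ n) := by group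
      _ = 1 := by rw [← pow_add, ← pow_succ', show n + n + 1 = orderOf (g * g) by omega, pow_orderOf_eq_one]
  set c := u * y with hc
  have hcP : c ∈ C ⊔ B := by
    rw [show c = b * (y * (g * g) ^ n * y⁻¹) by rw [hc, hu, inv_of_two hy, hg]; group]
    exact mul_mem hbP (hconjP _ (pow_mem hgg n))
  have hyc : y * c * y⁻¹ = c⁻¹ := by
    rw [hc, mul_inv_rev, inv_of_two hy, inv_eq_of_mul_eq_one_right huu]
    calc y * (u * y) * y = y * u * (y * y) := by group
      _ = y * u := by rw [mul_self_of_two hy, mul_one]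
  obtain ⟨m, hm⟩ := exists_sqrt_pow (hordP c hcP)
  set d := c ^ m with hd
  have hdP : d ∈ C ⊔ B := pow_mem hcP m
  have hyd : y * d * y⁻¹ = d⁻¹ := by rw [hd, ← conj_pow, hyc, inv_pow]
  have hud : d⁻¹ * u * d = y := by
    have : u = d * d * y⁻¹ := by rw [hm, hc, mul_inv_cancel_right]
    calc d⁻¹ * u * d = d * (y⁻¹ * d * y) * y⁻¹ := by rw [this]; group
      _ = d * (y * d * y⁻¹) * y := by rw [inv_of_two hy]
      _ = y := by rw [hyd, mul_inv_cancel, one_mul]
  set g' := d⁻¹ * g * d with hg'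
  have hg'y : Commute g' y := by
    rw [← hud]
    show d⁻¹ * g * d * (d⁻¹ * u * d) = d⁻¹ * u * d * (d⁻¹ * g * d)
    calc d⁻¹ * g * d * (d⁻¹ * u * d) = d⁻¹ * (g * u) * d := by group
      _ = d⁻¹ * (u * g) * d := by rw [hgu.eq]
      _ = _ := by group
  set w := y⁻¹ * g' with hw
  have hwy : Commute y w := ((Commute.refl y).inv_right).mul_right hg'y.symm
  have hwP : w ∈ C ⊔ B := by
    rw [show w = (y * (d⁻¹ * b) * y⁻¹) * d by rw [hw, hg', hg, inv_of_two hy]; group]
    exact mul_mem (hconjP _ (mul_mem (inv_mem hdP) hbP)) hdP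
  refine ⟨w, ?_, isConj_iff.2 ⟨d⁻¹, by rw [hw, hg', hg]; group⟩⟩
  obtain ⟨k, hk, a, ha, hka⟩ := (mem_sup_iff hCK).1 (hP ▸ hwP)
  have hya := h.commute_of_fix hy hC hCfix a ha
  have hyk : Commute y k := by
    rw [show k = w * a⁻¹ by rw [← hka, mul_inv_cancel_right]]
    exact hwy.mul_right hya.inv_right
  rw [← hka]
  refine mul_mem (hfixK C hC B hB hCB hCfix hPy K hK hCK hP k hk hyk ?_)
    (h.fixCore_core hy ((h.fix_iff hy hC).2 hCfix ha))
  refine commute_of_normalize h.hyp.pp h.hyp.qp h.hyp.pq hK (h.hyp.card C hC) hCK hk ?_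
  rw [← conj_smul_eq_iff]
  by_contra hne
  have hC' := h.hyp.inv C hC k
  have hfix' : MulAut.conj y • MulAut.conj k • C = MulAut.conj k • C := by
    rw [conj_smul_mul, hyk.eq, ← conj_smul_mul, hCfix]
  have hline' := h.hyp.line C hC B hB C hC _ hC' le_sup_left (hP ▸ smul_mem_pair hk) (Ne.symm hne)
  refine hfix ((h.fix_iff hy hB).1 ?_)
  exact (le_sup_right : B ≤ C ⊔ B).trans (hline' ▸ sup_le ((h.fix_iff hy hC).2 hCfix) ((h.fix_iff hy hC').2 hfix'))

variable (hS : Special D q)
include hS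

/-- Two involutions fixing a member moved by neither and fixing nothing else conjugate alike. -/
theorem exists_two_fixed : ∃ (y : G) (S T : Subgroup G), orderOf y = 2 ∧ S ∈ D ∧ T ∈ D ∧ S ≠ T ∧
    MulAut.conj y • S = S ∧ MulAut.conj y • T = T := by
  by_contra hcon
  have huniq : ∀ y : G, orderOf y = 2 → ∀ S ∈ D, ∀ T ∈ D, MulAut.conj y • S = S → MulAut.conj y • T = T →
      S = T := fun y hy S hS T hT h1 h2 => by
    by_contra hne
    exact hcon ⟨y, S, T, hy, hS, hT, hne, h1, h2⟩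
  haveI : Fact (Nat.Prime 2) := ⟨Nat.prime_two⟩
  obtain ⟨t, ht⟩ := exists_prime_orderOf_dvd_card' (G := G) 2
    (even_iff_two_dvd.1 (Nat.not_odd_iff_even.1 h.even))
  have hiso : IsIsolated t := by
    intro g hc
    set u := g * t * g⁻¹ with hu'
    have hu : orderOf u = 2 := (CfsgLib.ZStar.orderOf_conj g t).trans ht
    by_contra hne
    obtain ⟨P, hP, htP⟩ := h.exists_fix ht
    have huP : MulAut.conj u • P = P := by
      refine huniq t ht _ (h.hyp.inv P hP u) P hP ?_ htP
      rw [conj_smul_mul, hc.eq, ← conj_smul_mul, htP]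
    -- both act alike on every member
    have hall : ∀ C ∈ D, MulAut.conj t • C = MulAut.conj u • C := by
      intro C hC
      rcases eq_or_ne C P with rfl | hCP
      · rw [htP, huP]
      obtain ⟨K, hK, hPK, hl⟩ := h.hyp.pair P hP C hC
      obtain ⟨k, hk, hkC⟩ := h.hyp.exists_conj_of_le hP hC hK hPK (hl ▸ le_sup_right)
      have hgenl : IsGen D (P ⊔ C) :=
        sup_le (le_sSup ⟨hP, le_sup_left⟩) (le_sSup ⟨hC, le_sup_right⟩)
      have main : ∀ x : G, orderOf x = 2 → MulAut.conj x • P = P →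
          ∃ c ∈ K, MulAut.conj c • P = P ∧ x * k * x⁻¹ = k⁻¹ * c := by
        intro x hx hxP
        have hxC : MulAut.conj x • C ≠ C := fun e => hCP (huniq x hx C hC P hP e hxP)
        obtain ⟨S, hS', hSfix, hSle⟩ := h.exists_fix_pair hx hC
        obtain rfl := huniq x hx S hS' P hP hSfix hxP
        have hline := h.hyp.line C hC _ (h.hyp.inv C hC x) S hS' C hC hSle le_sup_left (Ne.symm hCP)
        have hxl : MulAut.conj x • (S ⊔ C) = S ⊔ C := by rw [hline]; exact sup_swap hx
        have hk' : x * k * x⁻¹ ∈ K := h.hyp.mem_K_of_normalize hP hK hPK hl hxl hk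
        have hKJ : S ⊔ C ≤ normalizer (K : Set G) := by rw [hl]; exact sup_le Subgroup.le_normalizer hPK
        obtain ⟨hS1, hS2⟩ := hS (S ⊔ C) K S hP hgenl hK hKJ hl.symm
        set v := k * (x * k * x⁻¹) with hv
        have hvK : v ∈ K := K.mul_mem hk hk'
        set c := (x * k * x⁻¹) * k * (x * k * x⁻¹)⁻¹ * k⁻¹ with hc
        have hcK : c ∈ K := mul_mem (mul_mem (mul_mem hk' hk) (inv_mem hk')) (inv_mem hk)
        have hcl := hS1 c hcK (hS2 _ hk' k hk)
        have hxv : x * v * x⁻¹ = c * v := by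
          have e : x * (x * k * x⁻¹) * x⁻¹ = k := by
            calc x * (x * k * x⁻¹) * x⁻¹ = (x * x) * k * (x * x)⁻¹ := by group
              _ = k := by rw [mul_self_of_two hx]; group
          calc x * v * x⁻¹ = (x * k * x⁻¹) * (x * (x * k * x⁻¹) * x⁻¹) := by rw [hv]; group
            _ = (x * k * x⁻¹) * k := by rw [e]
            _ = c * v := by rw [hc, hv]; group
        have hcv : c * v = v * c := (hcl v (hl ▸ Subgroup.mem_sup_left hvK)).eq
        have hcS : MulAut.conj c • S = S := conj_of_commute fun a ha => hcl a (Subgroup.mem_sup_left ha)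
        have hvfix : MulAut.conj x • MulAut.conj v • S = MulAut.conj v • S := by
          calc MulAut.conj x • MulAut.conj v • S = MulAut.conj (x * v * x⁻¹) • MulAut.conj x • S := by
                rw [conj_smul_mul, conj_smul_mul, inv_mul_cancel_right]
            _ = MulAut.conj v • MulAut.conj c • S := by rw [hxP, hxv, hcv, conj_smul_mul]
            _ = _ := by rw [hcS]
        have hvS := huniq x hx _ (h.hyp.inv S hP v) S hP hvfix hxP
        exact ⟨v, hvK, hvS, by rw [hv]; group⟩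
      obtain ⟨c₁, -, hc₁, e₁⟩ := main t ht htP
      obtain ⟨c₂, -, hc₂, e₂⟩ := main u hu huP
      have key : ∀ x c : G, MulAut.conj x • P = P → MulAut.conj c • P = P → x * k * x⁻¹ = k⁻¹ * c →
          MulAut.conj x • C = MulAut.conj k⁻¹ • P := by
        intro x c hxP hc e
        rw [← hkC]
        calc MulAut.conj x • MulAut.conj k • P = MulAut.conj (x * k * x⁻¹) • MulAut.conj x • P := by
              rw [conj_smul_mul, conj_smul_mul, inv_mul_cancel_right]
          _ = _ := by rw [hxP, e, ← conj_smul_mul, hc]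
      rw [key t c₁ htP hc₁ e₁, key u c₂ huP hc₂ e₂]
    have hw : t * u ≠ 1 := by
      intro e
      apply hne
      rw [← inv_of_two ht]
      exact (inv_eq_of_mul_eq_one_right e).symm
    have hw2 : orderOf (t * u) = 2 := orderOf_eq_prime (by
      rw [pow_two]
      calc t * u * (t * u) = t * (u * t) * u := by group
        _ = t * (t * u) * u := by rw [hc.eq]
        _ = (t * t) * (u * u) := by group
        _ = 1 := by rw [mul_self_of_two ht, mul_self_of_two hu, one_mul]) hw
    refine hw (h.eq_one_of_central fun g => ?_)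
    have : (⊤ : Subgroup G) ≤ centralizer ({t * u} : Set G) := by
      rw [← h.hyp.gen]
      refine sSup_le fun C hC => ?_
      intro a ha
      have hfix : MulAut.conj (t * u) • C = C := by
        rw [← conj_smul_mul, ← hall C hC, conj_smul_mul, mul_self_of_two ht]
        simp
      exact Subgroup.mem_centralizer_singleton_iff.2 (h.commute_of_fix hw2 hC hfix a ha).symm.eq
    exact (Subgroup.mem_centralizer_singleton_iff.1 (this (mem_top g))).symm
  have hz := CfsgLib.ZStar.inZStar ht hiso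
  have hO : pPrimeCore 2 G = ⊥ := h.no_odd _ inferInstance (Nat.coprime_two_right.1 (CfsgLib.card_pPrimeCore_coprime 2))
  have : t = 1 := h.eq_one_of_central fun g => by
    have := hz g
    rw [hO, Subgroup.mem_bot, mul_inv_eq_one, mul_inv_eq_iff_eq_mul] at this
    exact this.symm
  rw [this, orderOf_one] at ht
  exact absurd ht (by norm_num)

/-- With two fixed members there is only one maximal subgroup above the fixed members. -/
theorem unique_max {y : G} (hy : orderOf y = 2) {S T : Subgroup G} (hSD : S ∈ D) (hTD : T ∈ D) (hST : S ≠ T)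
    (hyS : MulAut.conj y • S = S) (hyT : MulAut.conj y • T = T) {M M' : Subgroup G} (hM : IsMax D M)
    (hM' : IsMax D M') (hle : fixCore D y ≤ M) (hle' : fixCore D y ≤ M') : M = M' := by
  haveI : Fact q.Prime := ⟨h.hyp.qp⟩
  by_contra hne
  set X := fixCore D y with hX
  have hy1 : y ≠ 1 := fun e => by rw [e, orderOf_one] at hy; norm_num at hy
  have hSX : S ≤ X := (h.fix_iff hy hSD).2 hyS
  have hTX : T ≤ X := (h.fix_iff hy hTD).2 hyT
  obtain ⟨R, hsX⟩ := h.exists_str (isGen_core D _) (h.fixCore_ne_top hy1)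
  have hyX : ∀ x ∈ X, Commute y x := fun x hx =>
    (Subgroup.mem_centralizer_singleton_iff.1 (core_le D _ hx)).symm
  have hRA : R ⊔ S = X := hsX.sup S hSD hSX
  have htop : M ⊔ M' = ⊤ := by
    by_contra hn
    have e1 := hM.eq_of_le _ (isGen_sup hM.isGen hM'.isGen) hn le_sup_left
    have e2 := hM'.eq_of_le _ (isGen_sup hM.isGen hM'.isGen) hn le_sup_right
    exact hne (e1.symm.trans e2)
  -- facts about one of the two subgroups
  have facts : ∀ M₁ M₂ : Subgroup G, IsMax D M₁ → IsMax D M₂ → X ≤ M₁ → X ≤ M₂ → ¬ M₂ ≤ M₁ →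
      ∃ Q, Str D q M₁ Q ∧ R ≤ Q ∧
        ((∀ r ∈ R, ∀ r' ∈ R, Commute r r') → ∀ x ∈ Q, ∀ r ∈ R, Commute x r) := by
    intro M₁ M₂ hM₁ hM₂ h₁ h₂ hn
    obtain ⟨Q, hs⟩ := h.exists_str hM₁.isGen hM₁.ne_top
    have hS₁ := hSX.trans h₁
    have hRQ : R ≤ Q := h.le_Q hs hSD hS₁ hsX.isP (hsX.le.trans h₁)
    refine ⟨Q, hs, hRQ, fun hRab x hx r hr => ?_⟩
    have hyM := h.stable hy hM₁.isGen h₁
    have hyQ := h.norm_Q hs hSD hS₁ hyM
    have hyQ' : ∀ v ∈ Q, y * v * y⁻¹ ∈ Q := fun v hv => (Subgroup.mem_normalizer_iff.mp hyQ v).mp hv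
    have hzc : ∀ c ∈ Q ⊓ centralizer (M₁ : Set G), ∀ v ∈ M₁, Commute c v := fun c hc v hv =>
      (Subgroup.mem_centralizer_iff.1 hc.2 v hv).symm
    have hyy : ∀ v : G, y * (y * v * y⁻¹) * y⁻¹ = v := fun v => by
      calc y * (y * v * y⁻¹) * y⁻¹ = (y * y) * v * (y * y)⁻¹ := by group
        _ = v := by rw [mul_self_of_two hy]; group
    have hyZ : ∀ c ∈ Q ⊓ centralizer (M₁ : Set G), y * c * y⁻¹ ∈ Q ⊓ centralizer (M₁ : Set G) := by
      intro c hc
      refine ⟨hyQ' c hc.1, fun v hv => ?_⟩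
      have hv' : y * v * y⁻¹ ∈ M₁ := by
        rw [← hyM, mem_conj_smul_iff]; simpa [mul_assoc] using hv
      have := (hzc c hc _ hv').eq
      calc v * (y * c * y⁻¹) = y * (y * v * y⁻¹ * c) * y⁻¹ := by
            rw [← mul_assoc, ← mul_assoc]; conv_lhs => rw [← hyy v]
            group
        _ = y * (c * (y * v * y⁻¹)) * y⁻¹ := by rw [this]
        _ = y * c * y⁻¹ * v := by
            conv_rhs => rw [← hyy v]
            group
    -- the centre of `M₁` is centralised by `y`
    have hinv : ∀ z ∈ Q ⊓ centralizer (M₁ : Set G), y * z * y⁻¹ = z⁻¹ → z = 1 := by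
      intro z hz hzinv
      by_contra hz1
      set y' := y * z with hy'
      have hyzy : y * z * y = z⁻¹ := by rw [← hzinv, inv_of_two hy]
      have hy'2 : orderOf y' = 2 := by
        refine orderOf_eq_prime ?_ ?_
        · rw [pow_two, hy']
          calc y * z * (y * z) = (y * z * y) * z := by group
            _ = 1 := by rw [hyzy, inv_mul_cancel]
        · intro e
          have h2 : z = y := by rw [← inv_of_two hy]; exact (inv_eq_of_mul_eq_one_right e).symm
          obtain ⟨i, hi⟩ := hs.isP ⟨z, hz.1⟩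
          have := orderOf_dvd_of_pow_eq_one (show z ^ q ^ i = 1 from congrArg Subtype.val hi)
          rw [h2, hy] at this
          exact h.hyp.q_odd ((Nat.prime_dvd_prime_iff_eq Nat.prime_two h.hyp.qp).1
            (Nat.prime_two.dvd_of_dvd_pow this)).symm
      -- the same fixed members
      have hfix : fixCore D y' ≤ M₂ := by
        obtain ⟨m, hm⟩ := exists_sqrt_pow (u := z) (by
          obtain ⟨i, hi⟩ := hs.isP ⟨z, hz.1⟩
          exact ((h.hyp.qp.odd_of_ne_two h.hyp.q_odd).pow (n := i)).of_dvd_nat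
            (orderOf_dvd_of_pow_eq_one (congrArg Subtype.val hi)))
        have he : y' = (z ^ m)⁻¹ * y * z ^ m := by
          have h1 : y * z ^ m * y⁻¹ = (z ^ m)⁻¹ := by rw [← conj_pow, hzinv, inv_pow]
          calc y' = y * z ^ m * y⁻¹ * y * z ^ m := by rw [hy']; conv_lhs => rw [← hm]
                                                      group
            _ = _ := by rw [h1]
        have hzm : z ^ m ∈ Q ⊓ centralizer (M₁ : Set G) := pow_mem hz m
        refine (sSup_le fun C hC => ?_ : core D (centralizer ({y'} : Set G)) ≤ M₂)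
        have hC' : MulAut.conj (z ^ m) • C ≤ X := by
          refine le_core (h.hyp.inv C hC.1 _) fun c hc => ?_
          rw [mem_conj_smul_iff] at hc
          rw [Subgroup.mem_centralizer_singleton_iff]
          have := Subgroup.mem_centralizer_singleton_iff.1 (hC.2 hc)
          rw [he] at this
          calc c * y = z ^ m * (((z ^ m)⁻¹ * c * z ^ m) * ((z ^ m)⁻¹ * y * z ^ m)) * (z ^ m)⁻¹ := by group
            _ = z ^ m * (((z ^ m)⁻¹ * y * z ^ m) * ((z ^ m)⁻¹ * c * z ^ m)) * (z ^ m)⁻¹ := by rw [this]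
            _ = y * c := by group
        intro c hc
        have h1 : z ^ m * c * (z ^ m)⁻¹ ∈ X := hC' (by rw [mem_conj_smul_iff]; simpa [mul_assoc] using hc)
        have h2 := hzc _ hzm _ (h₁ h1)
        have e : c = z ^ m * c * (z ^ m)⁻¹ := by
          calc c = (z ^ m)⁻¹ * (z ^ m * c * (z ^ m)⁻¹) * z ^ m := by group
            _ = (z ^ m)⁻¹ * ((z ^ m * c * (z ^ m)⁻¹) * z ^ m) := by group
            _ = _ := by rw [← h2.eq, inv_mul_cancel_left]
        rw [e]
        exact h₂ h1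
      have hzM₂ : MulAut.conj z • M₂ = M₂ := by
        have e : z = y * y' := by rw [hy', ← mul_assoc, mul_self_of_two hy, one_mul]
        rw [e, ← conj_smul_mul, h.stable hy'2 hM₂.isGen hfix, h.stable hy hM₂.isGen h₂]
      exact hn (h.uniq hS hM₁ hs hz hz1 hM₂.isGen hM₂.ne_top hzM₂ hSD hTD hST hS₁ (hSX.trans h₂)
        (hTX.trans h₁) (hTX.trans h₂))
    have hcy : ∀ c ∈ Q ⊓ centralizer (M₁ : Set G), y * c * y⁻¹ = c := by
      intro c hc
      have hc' := hyZ c hc
      have hcc := hzc c hc _ (hs.le hc'.1)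
      have := hinv _ (mul_mem hc (inv_mem hc')) (by
        calc y * (c * (y * c * y⁻¹)⁻¹) * y⁻¹ = (y * c * y⁻¹) * (y * (y * c * y⁻¹) * y⁻¹)⁻¹ := by group
          _ = (y * c * y⁻¹) * c⁻¹ := by rw [hyy]
          _ = _ := by group)
      rw [mul_inv_eq_one] at this
      exact this.symm
    have hodd2 : ∀ c ∈ Q, c * c = 1 → c = 1 := by
      intro c hc h2
      obtain ⟨i, hi⟩ := hs.isP ⟨c, hc⟩
      rw [← orderOf_eq_one_iff]
      exact Nat.eq_one_of_dvd_coprimes
        ((Nat.coprime_primes Nat.prime_two h.hyp.qp).2 (Ne.symm h.hyp.q_odd) |>.pow_right i)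
        (orderOf_dvd_of_pow_eq_one (show c ^ 2 = 1 by rw [pow_two, h2]))
        (orderOf_dvd_of_pow_eq_one (congrArg Subtype.val hi))
    -- `v = x (y x y)` is fixed by `y`
    set x' := y * x * y⁻¹ with hx'def
    have hx' : x' ∈ Q := hyQ' x hx
    set v := x * x' with hv
    have hvQ : v ∈ Q := mul_mem hx hx'
    set c := ⁅x', x⁆ with hc
    have hcZ := h.comm_central hS hM₁.isGen hs hSD hS₁ hx' hx
    have hyv : y * v * y⁻¹ = c * v := by
      calc y * v * y⁻¹ = (y * x * y⁻¹) * (y * (y * x * y⁻¹) * y⁻¹) := by rw [hv, hx'def]; group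
        _ = x' * x := by rw [hyy]
        _ = c * v := by rw [hc, hv]; simp only [commutatorElement_def]; group
    have hc1 : c = 1 := by
      refine hodd2 c hcZ.1 ?_
      have : v = c * (c * v) := by
        conv_lhs => rw [← hyy v, hyv]
        calc y * (c * v) * y⁻¹ = (y * c * y⁻¹) * (y * v * y⁻¹) := by group
          _ = _ := by rw [hcy c hcZ, hyv]
      rw [← mul_assoc] at this
      exact (mul_eq_right.1 this.symm)
    rw [hc1, one_mul] at hyv
    have hvS : MulAut.conj v • S ≤ X := (h.fix_iff hy (h.hyp.inv S hSD v)).2 (by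
      calc MulAut.conj y • MulAut.conj v • S = MulAut.conj (y * v * y⁻¹) • MulAut.conj y • S := by
            rw [conj_smul_mul, conj_smul_mul, inv_mul_cancel_right]
        _ = _ := by rw [hyv, hyS])
    obtain ⟨r₀, hr₀, hr₀v⟩ := h.hyp.exists_conj_of_le hSD (h.hyp.inv S hSD v) hsX.isP (hSX.trans hsX.norm)
      (hRA.symm ▸ hvS)
    have hn' : r₀⁻¹ * v ∈ normalizer (S : Set G) := by
      rw [← conj_smul_eq_iff, ← conj_smul_mul, ← hr₀v, conj_smul_mul, inv_mul_cancel]; simp
    have hmem : r₀⁻¹ * v ∈ Q := mul_mem (inv_mem (hRQ hr₀)) hvQ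
    have hc₀ := h.fixed_central hS hM₁.isGen hs hSD hS₁ hmem
      (commute_of_normalize h.hyp.pp h.hyp.qp h.hyp.pq hs.isP (h.hyp.card S hSD) (hS₁.trans hs.norm) hmem hn')
    have hvr : Commute v r := by
      rw [show v = r₀ * (r₀⁻¹ * v) by group]
      exact (hRab r₀ hr₀ r hr).mul_left (hzc _ hc₀ r (h₁ (hsX.le hr)))
    have hk := h.comm_central hS hM₁.isGen hs hSD hS₁ hx (hRQ hr)
    have hyr : y * r * y⁻¹ = r := by rw [(hyX r (hsX.le hr)).eq, mul_inv_cancel_right]
    have e1 : ⁅x, r⁆ = ⁅x⁻¹, r⁆ := by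
      calc ⁅x, r⁆ = y * ⁅x, r⁆ * y⁻¹ := (hcy _ hk).symm
        _ = x' * (y * r * y⁻¹) * x'⁻¹ * (y * r * y⁻¹)⁻¹ := by
            rw [hx'def]; simp only [commutatorElement_def]; group
        _ = x' * r * x'⁻¹ * r⁻¹ := by rw [hyr]
        _ = x⁻¹ * (v * r * v⁻¹) * x * r⁻¹ := by rw [hv]; group
        _ = ⁅x⁻¹, r⁆ := by rw [hvr.eq, mul_inv_cancel_right]; simp only [commutatorElement_def]; group
    have e2 : ⁅x⁻¹, r⁆ = ⁅x, r⁆⁻¹ := by
      have h3 := hzc _ (inv_mem hk) x (hs.le hx)
      calc ⁅x⁻¹, r⁆ = x⁻¹ * (⁅x, r⁆⁻¹ * x) := by simp only [commutatorElement_def]; group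
        _ = _ := by rw [h3.eq, inv_mul_cancel_left]
    rw [e2] at e1
    exact commutatorElement_eq_one_iff_commute.1 (hodd2 _ hk.1 (eq_inv_iff_mul_eq_one.1 e1))
  obtain ⟨Q, hs, hRQ, hc⟩ := facts M M' hM hM' hle hle' fun hl => hne (hM'.eq_of_le M hM.isGen hM.ne_top hl)
  obtain ⟨Q', hs', hRQ', hc'⟩ := facts M' M hM' hM hle' hle fun hl => hne (hM.eq_of_le M' hM'.isGen hM'.ne_top hl).symm
  have hRab : ∀ r ∈ R, ∀ r' ∈ R, Commute r r' := by
    intro r hr r' hr'
    refine commutatorElement_eq_one_iff_commute.1 (h.eq_one_of_central fun g => ?_)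
    have k1 := h.comm_central hS hM.isGen hs hSD (hSX.trans hle) (hRQ hr) (hRQ hr')
    have k2 := h.comm_central hS hM'.isGen hs' hSD (hSX.trans hle') (hRQ' hr) (hRQ' hr')
    have : (M ⊔ M' : Subgroup G) ≤ centralizer ({⁅r, r'⁆} : Set G) := sup_le
      (fun x hx => Subgroup.mem_centralizer_singleton_iff.2 (Subgroup.mem_centralizer_iff.1 k1.2 x hx))
      (fun x hx => Subgroup.mem_centralizer_singleton_iff.2 (Subgroup.mem_centralizer_iff.1 k2.2 x hx))
    exact (Subgroup.mem_centralizer_singleton_iff.1 (this (htop.symm ▸ mem_top g))).symm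
  have hnorm : ∀ M₁ Q₁ : Subgroup G, Str D q M₁ Q₁ → X ≤ M₁ → (∀ x ∈ Q₁, ∀ r ∈ R, Commute x r) →
      M₁ ≤ normalizer (R : Set G) := by
    intro M₁ Q₁ hs₁ hX₁ hcomm
    rw [← hs₁.sup S hSD (hSX.trans hX₁)]
    refine sup_le (fun x hx => ?_) (hSX.trans hsX.norm)
    rw [← conj_smul_eq_iff]
    refine Subgroup.eq_of_le_of_card_ge (fun r hr => ?_) (card_conj_smul x R).ge
    rw [mem_conj_smul_iff] at hr
    rw [show r = x * (x⁻¹ * r * x) * x⁻¹ by group, (hcomm x hx _ hr).eq, mul_inv_cancel_right]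
    exact hr
  haveI hRn : R.Normal := Subgroup.normalizer_eq_top_iff.1 (top_le_iff.1 (htop ▸
    sup_le (hnorm M Q hs hle (hc hRab)) (hnorm M' Q' hs' hle' (hc' hRab))))
  have hR := h.q_normal_bot hRn hsX.isP
  rw [hR, bot_sup_eq] at hRA
  exact hST (h.hyp.eq_of_le hTD hSD (hTX.trans hRA.ge)).symm

omit hS in
/-- An involution all of whose translates by generators of members are conjugate into `y O(C(y))`. -/
theorem exists_good : ∃ y : G, orderOf y = 2 ∧
    ∀ B ∈ D, ∀ b ∈ B, ∃ w ∈ centralizerPPrimeCore 2 y, IsConj (b * y) (y * w) := by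
  rcases h.good with hT | hS
  · haveI : Fact (Nat.Prime 2) := ⟨Nat.prime_two⟩
    obtain ⟨y, hy⟩ := exists_prime_orderOf_dvd_card' (G := G) 2
      (even_iff_two_dvd.1 (Nat.not_odd_iff_even.1 h.even))
    refine ⟨y, hy, h.exists_core_conj hy fun C hC B hB _ _ _ K hK hCK hP k hk _ hkC => ?_⟩
    rw [(hT C hC B hB K hK hCK hP).2 k hk hkC]
    exact one_mem _
  obtain ⟨y, S, T, hy, hSD, hTD, hST, hyS, hyT⟩ := h.exists_two_fixed hS
  haveI : Fact q.Prime := ⟨h.hyp.qp⟩
  refine ⟨y, hy, h.exists_core_conj hy fun C hC B hB hCB hCfix hPy K hK hCK hP k hk hyk hkC => ?_⟩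
  rcases eq_or_ne k 1 with rfl | hk1
  · exact one_mem _
  have hy1 : y ≠ 1 := fun e => by rw [e, orderOf_one] at hy; norm_num at hy
  obtain ⟨M, hM, hXM⟩ := h.exists_max (isGen_core D _) (h.fixCore_ne_top hy1)
  have hMinv : ∀ g : G, Commute g y → MulAut.conj g • M = M := by
    intro g hg
    refine h.unique_max hS hy hSD hTD hST hyS hyT ⟨?_, ?_, ?_⟩ hM ?_ hXM
    · have := isGen_core D (MulAut.conj g • M)
      rwa [← h.conj_core, core_eq hM.isGen] at this
    · intro e
      apply hM.ne_top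
      have h1 := congrArg (MulAut.conj g⁻¹ • ·) e
      simp only [conj_smul_mul, inv_mul_cancel, map_one, one_smul] at h1
      rw [h1, Subgroup.eq_top_iff']
      intro x
      rw [mem_conj_smul_iff]; exact mem_top _
    · intro J hJ hJne hle
      have h1 : M ≤ MulAut.conj g⁻¹ • J := by
        have := (Subgroup.pointwise_smul_le_pointwise_smul_iff (a := MulAut.conj g⁻¹)).2 hle
        rwa [conj_smul_mul, inv_mul_cancel, map_one, one_smul] at this
      have hgen' : IsGen D (MulAut.conj g⁻¹ • J) := by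
        have := isGen_core D (MulAut.conj g⁻¹ • J)
        rwa [← h.conj_core, core_eq hJ] at this
      have hne' : MulAut.conj g⁻¹ • J ≠ ⊤ := fun e => hJne (by
        rw [Subgroup.eq_top_iff']
        intro x
        have hx : g⁻¹ * x * g ∈ MulAut.conj g⁻¹ • J := e.symm ▸ mem_top _
        rw [mem_conj_smul_iff] at hx
        simpa [mul_assoc] using hx)
      have h2 := congrArg (MulAut.conj g • ·) (hM.eq_of_le _ hgen' hne' h1)
      simpa [conj_smul_mul] using h2
    · rw [← h.conj_fixCore hg]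
      exact Subgroup.pointwise_smul_le_pointwise_smul_iff.2 hXM
  have hMk := hMinv k hyk.symm
  -- a second member in the fixed members centralised by `k`
  have hSX : S ≤ fixCore D y := (h.fix_iff hy hSD).2 hyS
  have hTX : T ≤ fixCore D y := (h.fix_iff hy hTD).2 hyT
  have hCX : C ≤ fixCore D y := (h.fix_iff hy hC).2 hCfix
  obtain ⟨R, hsX⟩ := h.exists_str (isGen_core D _) (h.fixCore_ne_top hy1)
  have hkQ : IsPGroup q (zpowers k) := hK.to_le (zpowers_le.2 hk)
  have hkX : k ∈ normalizer ((fixCore D y : Subgroup G) : Set G) := conj_smul_eq_iff.1 (h.conj_fixCore hyk.symm)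
  set W := R ⊓ normalizer (C : Set G) with hW
  have hWne : W ≠ R := by
    intro e
    refine hST ?_
    obtain ⟨r, hr, rfl⟩ := h.hyp.exists_conj_of_le hC hSD hsX.isP (hCX.trans hsX.norm) ((hsX.sup C hC hCX).symm ▸ hSX)
    obtain ⟨r', hr', rfl⟩ := h.hyp.exists_conj_of_le hC hTD hsX.isP (hCX.trans hsX.norm) ((hsX.sup C hC hCX).symm ▸ hTX)
    rw [conj_smul_eq_iff.2 (show r ∈ normalizer (C : Set G) from ((e.symm ▸ hr : r ∈ W)).2),
      conj_smul_eq_iff.2 (show r' ∈ normalizer (C : Set G) from ((e.symm ▸ hr' : r' ∈ W)).2)]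
  have hkR : k ∈ normalizer (R : Set G) := h.norm_Q hsX hC hCX (conj_smul_eq_iff.2 hkX)
  have hkW : k ∈ normalizer (W : Set G) := by
    refine Subgroup.inf_normalizer_le_normalizer_inf ⟨hkR, Subgroup.le_normalizer ?_⟩
    rw [← conj_smul_eq_iff]
    exact conj_of_commute hkC
  obtain ⟨r, hr, hrW, hrfix⟩ := exists_fixed_coset hkQ hsX.isP inf_le_left hWne (zpowers_le.2 hkR) (zpowers_le.2 hkW)
  set T' := MulAut.conj r • C with hT'
  have hT'D := h.hyp.inv C hC r
  have hT'X : T' ≤ fixCore D y := (smul_mem_pair hr).trans (hsX.sup C hC hCX).le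
  have hT'C : C ≠ T' := fun e => hrW ⟨hr, conj_smul_eq_iff.1 e.symm⟩
  have hkT' : MulAut.conj k • T' = T' := by
    calc MulAut.conj k • MulAut.conj r • C = MulAut.conj (k * r * k⁻¹) • MulAut.conj k • C := by
          rw [conj_smul_mul, conj_smul_mul, inv_mul_cancel_right]
      _ = MulAut.conj r • MulAut.conj (r⁻¹ * (k * r * k⁻¹)) • C := by
          rw [conj_of_commute hkC, conj_smul_mul, mul_inv_cancel_left]
      _ = _ := by rw [conj_smul_eq_iff.2 (hrfix k (mem_zpowers k)).2]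
  have hkT'c : ∀ a ∈ T', Commute k a := h.hyp.cent_of_normalize hC hT'D hkT' hkC
  -- `k` is central in its pair
  have hgenl : IsGen D (C ⊔ B) := sup_le (le_sSup ⟨hC, le_sup_left⟩) (le_sSup ⟨hB, le_sup_right⟩)
  have hCPn : C ⊔ B ≤ normalizer (K : Set G) := by rw [hP]; exact sup_le Subgroup.le_normalizer hCK
  have hkP := (hS (C ⊔ B) K C hC hgenl hK hCPn hP.symm).1 k hk hkC
  obtain ⟨M₁, hM₁, hkM₁⟩ := h.exists_max (isGen_core D _) (h.fixCore_ne_top hk1)
  have hCM₁ : C ≤ M₁ := (h.le_fixCore hC hkC).trans hkM₁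
  have hBM₁ : B ≤ M₁ := (h.le_fixCore hB fun a ha => hkP a (Subgroup.mem_sup_right ha)).trans hkM₁
  obtain ⟨Q₁, hs₁⟩ := h.exists_str hM₁.isGen hM₁.ne_top
  have hkm : k ∈ M₁ := sup_le hCM₁ hBM₁ (hP ▸ Subgroup.mem_sup_left hk)
  obtain ⟨i, hi⟩ := hK ⟨k, hk⟩
  have hkz := h.fixed_central hS hM₁.isGen hs₁ hC hCM₁
    (h.mem_Q hs₁ hC hCM₁ hkm (congrArg Subtype.val hi)) hkC
  have hle := h.uniq hS hM₁ hs₁ hkz hk1 hM.isGen hM.ne_top hMk hC hT'D hT'C hCM₁ (hCX.trans hXM)
    ((h.le_fixCore hT'D hkT'c).trans hkM₁) (hT'X.trans hXM)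
  rw [← hM.eq_of_le M₁ hM₁.isGen hM₁.ne_top hle] at hXM hMinv
  refine le_centralizerPPrimeCore (N := M ⊓ centralizer ({y} : Set G)) inf_le_right
    ((h.sub_odd M hM.isGen hM.ne_top).of_dvd_nat (Subgroup.card_dvd_of_le inf_le_left)) ?_
    ⟨hM.eq_of_le M₁ hM₁.isGen hM₁.ne_top hle ▸ hkm, Subgroup.mem_centralizer_singleton_iff.2 hyk.eq.symm⟩
  intro g hg
  refine Subgroup.inf_normalizer_le_normalizer_inf ⟨?_, Subgroup.le_normalizer hg⟩
  have := hMinv g (Subgroup.mem_centralizer_singleton_iff.1 hg)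
  rw [hM.eq_of_le M₁ hM₁.isGen hM₁.ne_top hle] at this
  exact conj_smul_eq_iff.1 this

end Min

end CfsgLib.AfterFT.PairGen
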