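import Cfsg.Agent.Lib.AfterFT.PairGen.Parity

/-!
A group generated by an invariant set of subgroups of odd prime order, any two of which generate the same group of
odd order, is a Frobenius group of odd order modulo its centre.
-/

set_option autoImplicit false
set_option linter.unusedSectionVars false
set_option linter.style.haveILetI false
set_option maxHeartbeats 800000

namespace CfsgLib.AfterFT.PairGen

open Cfsg Subgroup CfsgLib
open scoped Pointwise commutatorElement

universe u v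

/-- The shape of one pair. -/
theorem pair_shape {P : Type u} [Group P] [Finite P] [Group.IsSolvable P] {p : ℕ} (hp : p.Prime)
    (hodd : Odd (Nat.card P)) {A : Subgroup P} (hA : Nat.card A = p) (hnn : ¬ A.Normal)
    (honly : ∀ X : Subgroup P, X ≠ ⊤ → A ≤ X → ∀ g : P, MulAut.conj g • A ≤ X → MulAut.conj g • A = A) :
    ∃ (q : ℕ) (K : Subgroup P), q.Prime ∧ q ≠ p ∧ q ≠ 2 ∧ IsPGroup q K ∧ K.Normal ∧ K ≠ ⊥ ∧ K ⊔ A = ⊤ ∧
      (∀ k ∈ K, (∀ a ∈ A, Commute k a) → k ∈ Subgroup.center P) ∧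
      (∀ k ∈ K, ∀ l ∈ K, ⁅k, l⁆ ∈ Subgroup.center P) := by
  haveI : Fact p.Prime := ⟨hp⟩
  have hsub : ∀ X : Subgroup P, X ≠ ⊤ → A ≤ X → X ≤ normalizer (A : Set P) := fun X hX hAX x hx =>
    conj_smul_eq_iff.1 (honly X hX hAX x fun y hy => by
      rw [mem_conj_smul_iff] at hy
      have := mul_mem (mul_mem hx (hAX hy)) (inv_mem hx)
      simpa [mul_assoc] using this)
  have hclos : ∀ N : Subgroup P, N.Normal → A ≤ N → N = ⊤ := by
    intro N hN hAN
    by_contra hne
    refine hnn ⟨fun a ha g => ?_⟩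
    have hle : MulAut.conj g • A ≤ N := fun x hx => by
      rw [mem_conj_smul_iff] at hx
      simpa [mul_assoc] using hN.conj_mem _ (hAN hx) g
    rw [← honly N hne hAN g hle, mem_conj_smul_iff]
    simpa [mul_assoc] using ha
  have hcent : ∀ N : Subgroup P, N.Normal → (∀ x ∈ N, ∀ a ∈ A, Commute x a) → N ≤ Subgroup.center P := by
    intro N hN hc x hx
    haveI := hN
    have h1 := hclos (centralizer (N : Set P)) inferInstance fun a ha =>
      Subgroup.mem_centralizer_iff.2 fun y hy => (hc y hy a ha).eq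
    exact Subgroup.mem_center_iff.2 fun g => ((Subgroup.mem_centralizer_iff.1 (h1 ▸ mem_top g)) x hx).symm
  have hA1 : A ≠ ⊥ := fun e => hp.ne_one (by rw [← hA, e, Subgroup.card_bot])
  haveI : Nontrivial P := by
    obtain ⟨a, -, ha⟩ := (Subgroup.bot_or_exists_ne_one A).resolve_left hA1
    exact ⟨⟨a, 1, ha⟩⟩
  set K := commutator P with hK
  haveI hKn : K.Normal := inferInstance
  have hKne : K ≠ ⊤ := (Group.IsSolvable.commutator_lt_top_of_nontrivial P).ne
  have hAK : ∀ x ∈ K, x ∈ A → x = 1 := by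
    intro x hxK hxA
    by_contra hx1
    refine hKne (hclos K hKn ?_)
    have : A = zpowers x := by
      refine (Subgroup.eq_of_le_of_card_ge (zpowers_le.2 hxA) ?_).symm
      rw [hA, Nat.card_zpowers]
      refine (orderOf_eq_prime ?_ hx1).ge
      have := pow_card_eq_one' (x := (⟨x, hxA⟩ : A))
      rw [hA] at this
      simpa using congrArg Subtype.val this
    rw [this]; exact zpowers_le.2 hxK
  have hKA : K ⊔ A = ⊤ := by
    refine hclos _ ⟨fun x hx g => ?_⟩ le_sup_right
    have h1 : ⁅g, x⁆ ∈ K := Subgroup.commutator_mem_commutator (mem_top g) (mem_top x)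
    have := mul_mem (Subgroup.mem_sup_left h1 : ⁅g, x⁆ ∈ K ⊔ A) hx
    simpa [commutatorElement_def] using this
  -- a proper normal part of the derived subgroup is central
  have hsmall : ∀ L : Subgroup P, L.Normal → L ≤ K → L ≠ K → L ≤ Subgroup.center P := by
    intro L hL hLK hne
    haveI := hL
    refine hcent L hL fun x hx a ha => ?_
    have hproper : L ⊔ A ≠ ⊤ := by
      intro e
      refine hne (le_antisymm hLK fun k hk => ?_)
      obtain ⟨l, hl, a', ha', rfl⟩ := Subgroup.mem_sup_of_normal_left.1 (e ▸ mem_top k : k ∈ L ⊔ A)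
      have : a' ∈ K := by
        have := K.mul_mem (K.inv_mem (hLK hl)) hk
        simpa using this
      rw [hAK a' this ha', mul_one]
      exact hl
    have hn := hsub _ hproper le_sup_right (Subgroup.mem_sup_left hx : x ∈ L ⊔ A)
    have h1 : x * a * x⁻¹ * a⁻¹ ∈ A := A.mul_mem ((Subgroup.mem_normalizer_iff.mp hn a).mp ha) (A.inv_mem ha)
    have h2 : x * a * x⁻¹ * a⁻¹ ∈ L := by
      have := L.mul_mem hx (hL.conj_mem _ (L.inv_mem hx) a)
      simpa [mul_assoc] using this
    have h3 := hAK _ (hLK h2) h1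
    rw [mul_inv_eq_one, mul_inv_eq_iff_eq_mul] at h3
    exact h3
  have hK1 : K ≠ ⊥ := by
    intro e
    rw [e, bot_sup_eq] at hKA
    exact hnn (hKA ▸ inferInstance)
  have hnotc : ¬ K ≤ Subgroup.center P := by
    intro hle
    refine hnn ⟨fun a ha g => ?_⟩
    obtain ⟨k, hk, a', ha', rfl⟩ := Subgroup.mem_sup_of_normal_left.1 (hKA ▸ mem_top g : g ∈ K ⊔ A)
    have := Subgroup.mem_center_iff.1 (hle hk) (a' * a * a'⁻¹)
    rw [show k * a' * a * (k * a')⁻¹ = k * (a' * a * a'⁻¹) * k⁻¹ by group, ← this, mul_inv_cancel_right]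
    exact mul_mem (mul_mem ha' ha) (inv_mem ha')
  -- the second derived subgroup is central
  haveI : Group.IsSolvable K := inferInstance
  haveI : Nontrivial K := K.nontrivial_iff_ne_bot.2 hK1
  have hK2lt : (commutator K).map K.subtype ≠ K := by
    intro e
    refine (Group.IsSolvable.commutator_lt_top_of_nontrivial K).ne ?_
    apply Subgroup.map_injective K.subtype_injective
    rw [e, ← MonoidHom.range_eq_map, Subgroup.range_subtype]
  have hK2n : ((commutator K).map K.subtype).Normal := ConjAct.normal_of_characteristic_of_normal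
  have hK2c := hsmall _ hK2n (Subgroup.map_subtype_le _) hK2lt
  have hcomm : ∀ k ∈ K, ∀ l ∈ K, ⁅k, l⁆ ∈ (commutator K).map K.subtype := fun k hk l hl =>
    ⟨⁅(⟨k, hk⟩ : K), (⟨l, hl⟩ : K)⁆, Subgroup.commutator_mem_commutator (mem_top _) (mem_top _), rfl⟩
  haveI hnil : Group.IsNilpotent K := by
    refine Subgroup.isNilpotent_of_ker_le_center (Abelianization.of (G := K)) ?_
    intro x hx
    rw [Abelianization.ker_of] at hx
    rw [Subgroup.mem_center_iff]
    exact fun y => Subtype.ext (Subgroup.mem_center_iff.1 (hK2c ⟨x, hx, rfl⟩) y)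
  -- `K` is a `q`-group
  obtain ⟨q, hq, hqK⟩ := Nat.exists_prime_and_dvd fun e => hK1 (Subgroup.eq_bot_of_card_eq K e)
  haveI : Fact q.Prime := ⟨hq⟩
  have hKq : IsPGroup q K := by
    by_contra hnq
    -- every Sylow subgroup of `K` is proper, hence central
    refine hnotc ?_
    have hall : ∀ (r : ℕ), r.Prime → ∀ R : Sylow r K, (R : Subgroup K).map K.subtype ≤ Subgroup.center P := by
      intro r hr R
      haveI : Fact r.Prime := ⟨hr⟩
      haveI : (R : Subgroup K).Normal := inferInstance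
      haveI : (R : Subgroup K).Characteristic := Sylow.characteristic_of_normal R inferInstance
      refine hsmall _ ConjAct.normal_of_characteristic_of_normal (Subgroup.map_subtype_le _) fun e => hnq ?_
      have hKr : IsPGroup r K := e ▸ R.2.map K.subtype
      obtain ⟨n, hn⟩ := hKr.exists_card_eq
      obtain rfl : q = r := (Nat.prime_dvd_prime_iff_eq hq hr).1 (hq.dvd_of_dvd_pow (hn ▸ hqK))
      exact hKr
    have htop : (Subgroup.center P).comap K.subtype = ⊤ := by
      rw [← Subgroup.index_eq_one]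
      by_contra hne
      obtain ⟨r, hr, hrd⟩ := Nat.exists_prime_and_dvd hne
      haveI : Fact r.Prime := ⟨hr⟩
      obtain ⟨R⟩ : Nonempty (Sylow r K) := inferInstance
      exact R.not_dvd_index (hrd.trans (Subgroup.index_dvd_of_le (Subgroup.map_le_iff_le_comap.1 (hall r hr R))))
    intro k hk
    exact (htop ▸ mem_top (⟨k, hk⟩ : K) : (⟨k, hk⟩ : K) ∈ (Subgroup.center P).comap K.subtype)
  have hqp : q ≠ p := by
    rintro rfl
    haveI : Group.IsNilpotent P := by
      refine (?_ : IsPGroup q P).isNilpotent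
      have : IsPGroup q (K ⊔ A : Subgroup P) :=
        IsPGroup.to_sup_of_normal_left hKq (IsPGroup.of_card (n := 1) (by rw [hA, pow_one]))
      rw [hKA] at this
      exact this.of_equiv Subgroup.topEquiv
    set N := normalizer (A : Set P)
    have hNne : N ≠ ⊤ := fun e => hnn (Subgroup.normalizer_eq_top_iff.1 e)
    obtain ⟨x, hx, hxN⟩ := SetLike.exists_of_lt (Group.normalizerCondition_of_isNilpotent N (lt_top_iff_ne_top.2 hNne))
    refine hxN (conj_smul_eq_iff.1 (honly N hNne Subgroup.le_normalizer x fun y hy => ?_))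
    rw [mem_conj_smul_iff] at hy
    have := (Subgroup.mem_normalizer_iff.mp hx _).mp (Subgroup.le_normalizer hy : _ ∈ N)
    simpa [mul_assoc] using this
  refine ⟨q, K, hq, hqp, ?_, hKq, hKn, hK1, hKA, ?_, fun k hk l hl => hK2c (hcomm k hk l hl)⟩
  · rintro rfl
    exact (Nat.not_even_iff_odd.2 hodd) (even_iff_two_dvd.2 (hqK.trans (Subgroup.card_subgroup_dvd_card K)))
  intro k hk hka
  set K2 := (commutator K).map K.subtype
  set C := K ⊓ centralizer (A : Set P)
  set S := K2 ⊔ C with hS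
  have hSK : S ≤ K := sup_le (Subgroup.map_subtype_le _) inf_le_left
  have hSn : S.Normal := by
    rw [← Subgroup.normalizer_eq_top_iff, eq_top_iff, ← hKA, sup_le_iff]
    refine ⟨fun x hx => ?_, fun a ha => ?_⟩
    · rw [← conj_smul_eq_iff]
      refine Subgroup.eq_of_le_of_card_ge ?_ (card_conj_smul x S).ge
      intro y hy
      rw [mem_conj_smul_iff] at hy
      have h1 := mul_mem (Subgroup.mem_sup_left (hcomm x hx _ (hSK hy)) : _ ∈ S) hy
      simpa [commutatorElement_def, mul_assoc] using h1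
    · rw [← conj_smul_eq_iff]
      refine Subgroup.eq_of_le_of_card_ge ?_ (card_conj_smul a S).ge
      rw [hS, Subgroup.smul_sup, Subgroup.Normal.conjAct hK2n (ConjAct.toConjAct a) |> fun e => (show MulAut.conj a • K2 = K2 from e)]
      refine sup_le_sup_left (fun y hy => ?_) K2
      rw [mem_conj_smul_iff] at hy
      have := Subgroup.mem_centralizer_iff.1 hy.2 a ha
      rw [show y = a * (a⁻¹ * y * a) * a⁻¹ by group, this, mul_inv_cancel_right]
      exact hy
  have hne : S ≠ K := by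
    intro e
    refine hnotc (hcent K hKn fun x hx a ha => ?_)
    have : S ≤ centralizer (A : Set P) := sup_le (hK2c.trans (Subgroup.center_le_centralizer _)) inf_le_right
    exact (Subgroup.mem_centralizer_iff.1 (this (e.symm ▸ hx : x ∈ S)) a ha).symm
  exact hsmall S hSn hSK hne (Subgroup.mem_sup_right ⟨hk, fun a ha => (hka a ha).symm.eq⟩)

/-- The main theorem, for the Feit–Thompson hypothesis. -/
theorem pairwise_generating
    (odd : ∀ (H : Type u) [Group H] [Finite H], Odd (Nat.card H) → Group.IsSolvable H)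
    {G : Type u} [Group G] [Finite G] (hG : ¬ IsMulCommutative G) (p : ℕ) (hp : p.Prime) (hp2 : p ≠ 2)
    (D : Set (Subgroup G)) (hDp : ∀ A ∈ D, Nat.card A = p)
    (hDinv : ∀ A ∈ D, ∀ g : G, A.map (MulAut.conj g).toMonoidHom ∈ D) (hDgen : sSup D = ⊤)
    {F : Type v} [Group F] [Finite F] (hF : Odd (Nat.card F))
    (hpair : ∀ A ∈ D, ∀ B ∈ D, A ≠ B → Nonempty (↥(A ⊔ B) ≃* F)) :
    Odd (Nat.card (G ⧸ Subgroup.center G)) ∧
      ∃ H : Subgroup (G ⧸ Subgroup.center G), Cfsg.IsFrobeniusComplement H := by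
  classical
  haveI : Fact p.Prime := ⟨hp⟩
  have hinv : ∀ A ∈ D, ∀ g : G, MulAut.conj g • A ∈ D := fun A hA g => by
    rw [Subgroup.pointwise_smul_def]; exact hDinv A hA g
  have hne1 : ∀ A ∈ D, ∀ a ∈ A, a ≠ 1 → A = zpowers a := by
    intro A hA a ha ha1
    refine (Subgroup.eq_of_le_of_card_ge (zpowers_le.2 ha) ?_).symm
    rw [hDp A hA, Nat.card_zpowers]
    refine (orderOf_eq_prime ?_ ha1).ge
    have := pow_card_eq_one' (x := (⟨a, ha⟩ : A))
    rw [hDp A hA] at this
    simpa using congrArg Subtype.val this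
  have hcardP : ∀ A ∈ D, ∀ B ∈ D, A ≠ B → Nat.card (A ⊔ B : Subgroup G) = Nat.card F := fun A hA B hB hne =>
    Nat.card_congr (hpair A hA B hB hne).some.toEquiv
  have hcomm_of : (∀ A ∈ D, ∀ B ∈ D, ∀ a ∈ A, ∀ b ∈ B, Commute a b) → False := by
    intro hc
    apply hG
    have h1 : (⊤ : Subgroup G) ≤ Subgroup.center G := by
      rw [← hDgen]
      refine sSup_le fun A hA a ha => Subgroup.mem_center_iff.2 fun g => ?_
      have : (⊤ : Subgroup G) ≤ centralizer ({a} : Set G) := by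
        rw [← hDgen]
        exact sSup_le fun B hB b hb => Subgroup.mem_centralizer_singleton_iff.2 (hc B hB A hA b hb a ha).eq
      exact Subgroup.mem_centralizer_singleton_iff.1 (this (mem_top g))
    exact ⟨⟨fun x y => (Subgroup.mem_center_iff.1 (h1 (mem_top y)) x)⟩⟩
  obtain ⟨A₀, hA₀, B₀, hB₀, hne₀⟩ : ∃ A ∈ D, ∃ B ∈ D, A ≠ B := by
    by_contra hc
    push Not at hc
    refine hcomm_of fun A hA B hB a ha b hb => ?_
    obtain rfl := hc A hA B hB
    rcases eq_or_ne a 1 with rfl | ha1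
    · exact Commute.one_left b
    obtain ⟨i, hi⟩ := Subgroup.mem_zpowers_iff.1 (hne1 A hA a ha ha1 ▸ hb : b ∈ zpowers a)
    exact hi ▸ (Commute.refl a).zpow_right i
  have hnab : ¬ ∀ x y : F, Commute x y := by
    intro hab
    refine hcomm_of fun A hA B hB a ha b hb => ?_
    rcases eq_or_ne A B with rfl | hne
    · rcases eq_or_ne a 1 with rfl | ha1
      · exact Commute.one_left b
      obtain ⟨i, hi⟩ := Subgroup.mem_zpowers_iff.1 (hne1 A hA a ha ha1 ▸ hb : b ∈ zpowers a)
      exact hi ▸ (Commute.refl a).zpow_right i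
    obtain ⟨e⟩ := hpair A hA B hB hne
    have := (hab (e ⟨a, Subgroup.mem_sup_left ha⟩) (e ⟨b, Subgroup.mem_sup_right hb⟩)).map e.symm
    simp only [MulEquiv.symm_apply_apply] at this
    exact congrArg Subtype.val this.eq
  have hline : ∀ A ∈ D, ∀ B ∈ D, ∀ C ∈ D, ∀ C' ∈ D, C ≤ A ⊔ B → C' ≤ A ⊔ B → C ≠ C' → C ⊔ C' = A ⊔ B := by
    intro A hA B hB C hC C' hC' h1 h2 hne
    rcases eq_or_ne A B with rfl | hAB
    · rw [sup_idem] at h1 h2
      exact absurd ((Subgroup.eq_of_le_of_card_ge h1 (by rw [hDp A hA, hDp C hC])).trans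
        (Subgroup.eq_of_le_of_card_ge h2 (by rw [hDp A hA, hDp C' hC'])).symm) hne
    exact Subgroup.eq_of_le_of_card_ge (sup_le h1 h2) (by rw [hcardP A hA B hB hAB, hcardP C hC C' hC' hne])
  -- every pair
  have hshape : ∀ A ∈ D, ∀ B ∈ D, A ≠ B → ∃ (q : ℕ) (K : Subgroup G), q.Prime ∧ q ≠ p ∧ q ≠ 2 ∧
      IsPGroup q K ∧ K ≠ ⊥ ∧ A ≤ normalizer (K : Set G) ∧ A ⊔ B = K ⊔ A ∧
      (∀ k ∈ K, (∀ a ∈ A, Commute k a) → ∀ x ∈ A ⊔ B, Commute x k) ∧
      (∀ k ∈ K, ∀ l ∈ K, ∀ x ∈ A ⊔ B, Commute x ⁅k, l⁆) := by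
    intro A hA B hB hne
    set P := A ⊔ B with hP
    have hodd : Odd (Nat.card P) := by rw [hcardP A hA B hB hne]; exact hF
    haveI := odd P hodd
    have hAP : A ≤ P := le_sup_left
    set A' := A.subgroupOf P with hA'
    have hA'c : Nat.card A' = p := by rw [Nat.card_congr (Subgroup.subgroupOfEquivOfLe hAP).toEquiv, hDp A hA]
    have hnn : ¬ A'.Normal := by
      intro hn
      have hle : P ≤ normalizer (A : Set G) := (Subgroup.normal_subgroupOf_iff_le_normalizer hAP).1 hn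
      obtain ⟨e⟩ := hpair A hA B hB hne
      apply hnab
      intro x y
      have hcard : Nat.card P = p ^ 2 := by
        have h1 : Nat.card P ∣ p * p := by
          have h1 := CfsgLib.card_sup_dvd_mul (B.subgroupOf P) A'
          rw [← Subgroup.subgroupOf_sup le_sup_right hAP, sup_comm B A, Subgroup.subgroupOf_self, Subgroup.card_top,
            Nat.card_congr (Subgroup.subgroupOfEquivOfLe (le_sup_right : B ≤ P)).toEquiv, hA'c, hDp B hB] at h1
          exact h1
        rw [← pow_two] at h1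
        obtain ⟨i, hi, hPi⟩ := (Nat.dvd_prime_pow hp).1 h1
        have hlt : p < Nat.card P := by
          rw [← hDp A hA]
          refine lt_of_le_of_ne (Subgroup.card_le_of_le hAP) fun e => hne ?_
          have := Subgroup.eq_of_le_of_card_ge hAP e.ge
          exact (Subgroup.eq_of_le_of_card_ge (this ▸ le_sup_right : B ≤ A) (by rw [hDp A hA, hDp B hB])).symm
        rw [hPi] at hlt ⊢
        interval_cases i
        · simp only [pow_zero] at hlt; have := hp.one_lt; omega
        · simp only [pow_one] at hlt; omega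
        · rfl
      have hc := (IsPGroup.commutative_of_card_eq_prime_sq hcard)
      obtain ⟨x, rfl⟩ := e.surjective x
      obtain ⟨y, rfl⟩ := e.surjective y
      exact (show Commute x y from hc x y).map e
    obtain ⟨q, K', hq, hqp, hq2, hK', hK'n, hK'1, hK'A, hc1, hc2⟩ := pair_shape hp hodd hA'c hnn (by
      intro X hX hAX g hg
      apply Subgroup.map_injective P.subtype_injective
      rw [map_conj_smul, map_subgroupOf_eq hAP]
      by_contra hne'
      apply hX
      have h1 : MulAut.conj (P.subtype g) • A ≤ X.map P.subtype := by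
        rw [← map_subgroupOf_eq hAP, ← map_conj_smul]; exact Subgroup.map_mono hg
      have h2 : A ≤ X.map P.subtype := by rw [← map_subgroupOf_eq hAP]; exact Subgroup.map_mono hAX
      have h3 := hline A hA B hB _ (hinv A hA _) A hA (h1.trans (Subgroup.map_subtype_le X)) hAP hne'
      apply Subgroup.map_injective P.subtype_injective
      rw [← MonoidHom.range_eq_map, Subgroup.range_subtype]
      exact le_antisymm (Subgroup.map_subtype_le X) (h3.ge.trans (sup_le h1 h2)))
    haveI := hK'n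
    refine ⟨q, K'.map P.subtype, hq, hqp, hq2, hK'.map _, fun e => hK'1 ?_, ?_, ?_, ?_, ?_⟩
    · rwa [Subgroup.map_eq_bot_iff_of_injective _ P.subtype_injective] at e
    · rw [← map_subgroupOf_eq hAP, map_subtype_normalizer]
      exact (le_top).trans_eq (Subgroup.normalizer_eq_top K').symm
    · have := congrArg (Subgroup.map P.subtype) hK'A
      rw [Subgroup.map_sup, map_subgroupOf_eq hAP, ← MonoidHom.range_eq_map, Subgroup.range_subtype] at this
      exact this.symm
    · rintro _ ⟨k, hk, rfl⟩ hka x hx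
      exact congrArg Subtype.val (Subgroup.mem_center_iff.1 (hc1 k hk fun a ha => Subtype.ext (hka a ha).eq) ⟨x, hx⟩)
    · rintro _ ⟨k, hk, rfl⟩ _ ⟨l, hl, rfl⟩ x hx
      exact congrArg Subtype.val (Subgroup.mem_center_iff.1 (hc2 k hk l hl) ⟨x, hx⟩)
  obtain ⟨q, K₀, hq, hqp, hq2, hK₀, hK₀1, hK₀A, hK₀P, -, -⟩ := hshape A₀ hA₀ B₀ hB₀ hne₀
  haveI : Fact q.Prime := ⟨hq⟩
  -- the prime is the same for all pairs
  have hqF : q ∣ Nat.card F := by
    rw [← hcardP A₀ hA₀ B₀ hB₀ hne₀, hK₀P]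
    obtain ⟨n, hn⟩ := hK₀.exists_card_eq
    have h1 : Nat.card K₀ ∣ Nat.card (K₀ ⊔ A₀ : Subgroup G) := Subgroup.card_dvd_of_le le_sup_left
    refine Dvd.dvd.trans ?_ h1
    rw [hn]
    refine dvd_pow_self q fun h0 => hK₀1 ?_
    rw [h0, pow_zero] at hn
    exact Subgroup.eq_bot_of_card_eq _ hn
  have hshape' : ∀ A ∈ D, ∀ B ∈ D, A ≠ B → ∃ K : Subgroup G,
      IsPGroup q K ∧ A ≤ normalizer (K : Set G) ∧ A ⊔ B = K ⊔ A ∧ K ≠ ⊥ ∧
      (∀ k ∈ K, (∀ a ∈ A, Commute k a) → ∀ x ∈ A ⊔ B, Commute x k) ∧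
      (∀ k ∈ K, ∀ l ∈ K, ∀ x ∈ A ⊔ B, Commute x ⁅k, l⁆) := by
    intro A hA B hB hne
    obtain ⟨r, K, hr, hrp, -, hK, hK1, hKA, hKP, hc1, hc2⟩ := hshape A hA B hB hne
    suffices r = q by subst this; exact ⟨K, hK, hKA, hKP, hK1, hc1, hc2⟩
    by_contra hne'
    haveI : Fact r.Prime := ⟨hr⟩
    -- an element of order `q` in the pair
    obtain ⟨x, hx⟩ := exists_prime_orderOf_dvd_card' (G := (A ⊔ B : Subgroup G)) q
      (by rw [hcardP A hA B hB hne]; exact hqF)
    have hxK : (x : G) ^ p ∈ K := by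
      obtain ⟨k, hk, a, ha, hka⟩ := (mem_sup_iff hKA).1 (hKP.le x.2)
      have := pow_mul_mem hKA hk ha p
      rw [show a ^ p = 1 by
        have := pow_card_eq_one' (x := (⟨a, ha⟩ : A))
        rw [hDp A hA] at this
        simpa using congrArg Subtype.val this, inv_one, mul_one, hka] at this
      exact this
    obtain ⟨i, hi⟩ := hK ⟨_, hxK⟩
    have h1 : (x : G) ^ (p * r ^ i) = 1 := by rw [pow_mul]; exact congrArg Subtype.val hi
    have h2 := orderOf_dvd_of_pow_eq_one h1
    rw [Subgroup.orderOf_coe, hx] at h2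
    rcases hq.dvd_mul.1 h2 with h3 | h3
    · exact hqp ((Nat.prime_dvd_prime_iff_eq hq hp).1 h3)
    · exact hne' ((Nat.prime_dvd_prime_iff_eq hq hr).1 (hq.dvd_of_dvd_pow h3)).symm
  have h : Hyp D p q :=
    { pp := hp, qp := hq, p_odd := hp2, q_odd := hq2, pq := hqp.symm, card := hDp, inv := hinv, gen := hDgen
      nonempty := ⟨A₀, hA₀⟩, line := hline
      pair := fun A hA B hB => by
        rcases eq_or_ne A B with rfl | hne
        · exact ⟨⊥, IsPGroup.of_bot, (le_top).trans_eq (Subgroup.normalizer_eq_top ⊥).symm,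
            by rw [sup_idem, bot_sup_eq]⟩
        · obtain ⟨K, h1, h2, h3, -⟩ := hshape' A hA B hB hne
          exact ⟨K, h1, h2, h3⟩ }
  have huniq : ∀ A ∈ D, ∀ B ∈ D, ∀ K K' : Subgroup G, IsPGroup q K → IsPGroup q K' →
      A ≤ normalizer (K : Set G) → A ≤ normalizer (K' : Set G) → A ⊔ B = K ⊔ A → A ⊔ B = K' ⊔ A → K = K' :=
    fun A hA B hB K K' hK hK' hAK hAK' hP hP' => le_antisymm
      (h.K_unique hA hK' hAK' hP' hK (hP ▸ le_sup_left)) (h.K_unique hA hK hAK hP hK' (hP' ▸ le_sup_left))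
  have hzc : ∀ A ∈ D, ∀ B ∈ D, A ≠ B → ∀ K : Subgroup G, IsPGroup q K → A ≤ normalizer (K : Set G) →
      A ⊔ B = K ⊔ A → ((∃ z : F, z ≠ 1 ∧ ∀ x, Commute z x) ↔ ∃ k ∈ K, k ≠ 1 ∧ ∀ a ∈ A, Commute k a) := by
    intro A hA B hB hne K hK hAK hP
    obtain ⟨K', hK', hAK', hP', -, hc1, -⟩ := hshape' A hA B hB hne
    obtain rfl := huniq A hA B hB K K' hK hK' hAK hAK' hP hP'
    obtain ⟨e⟩ := hpair A hA B hB hne
    constructor
    · rintro ⟨z, hz1, hzc⟩
      obtain ⟨z, rfl⟩ := e.surjective z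
      have hzc' : ∀ x : (A ⊔ B : Subgroup G), Commute z x := fun x => by
        have := (hzc (e x)).map e.symm
        simpa using this
      obtain ⟨k, hk, a, ha, hka⟩ := (mem_sup_iff hAK).1 (hP.le z.2)
      obtain ⟨a₁, ha₁, ha₁1⟩ := h.exists_ne_one hA
      obtain ⟨b₁, hb₁, hb₁1⟩ := h.exists_ne_one hB
      have hzx : ∀ x ∈ A ⊔ B, Commute (z : G) x := fun x hx => congrArg Subtype.val (hzc' ⟨x, hx⟩).eq
      have hkc : ∀ a' ∈ A, Commute k a' := fun a' ha' => by
        rw [show k = (z : G) * a⁻¹ by rw [← hka, mul_inv_cancel_right]]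
        refine (hzx a' (Subgroup.mem_sup_left ha')).mul_left ?_
        rcases eq_or_ne a 1 with rfl | ha0
        · simp
        obtain ⟨i, hi⟩ := Subgroup.mem_zpowers_iff.1 (hne1 A hA a ha ha0 ▸ ha' : a' ∈ zpowers a)
        exact hi ▸ (Commute.refl a).inv_left.zpow_right i
      refine ⟨k, hk, fun hk1 => ?_, hkc⟩
      rw [hk1, one_mul] at hka
      have ha0 : a ≠ 1 := fun e0 => hz1 (by
        rw [show z = 1 from Subtype.ext (hka.symm.trans e0), map_one])
      exact hne (h.eq_of_commute hA hB ha hb₁ ha0 hb₁1 (hka ▸ hzx b₁ (Subgroup.mem_sup_right hb₁)))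
    · rintro ⟨k, hk, hk1, hka⟩
      refine ⟨e ⟨k, hP ▸ Subgroup.mem_sup_left hk⟩, ?_, fun x => ?_⟩
      · intro e0
        have h0 := (map_eq_one_iff e e.injective).1 e0
        exact hk1 (congrArg Subtype.val h0)
      · obtain ⟨x, rfl⟩ := e.surjective x
        exact (show Commute (⟨k, hP ▸ Subgroup.mem_sup_left hk⟩ : (A ⊔ B : Subgroup G)) x from
          Subtype.ext (hc1 k hk hka x x.2).symm.eq).map e
  have hgood : Good D q := by
    by_cases hz : ∃ z : F, z ≠ 1 ∧ ∀ x, Commute z x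
    · exact Or.inr (h.special fun A hA B hB hne K hK hAK hP => (hzc A hA B hB hne K hK hAK hP).1 hz)
    refine Or.inl fun A hA B hB K hK hAK hP => ?_
    rcases eq_or_ne A B with rfl | hne
    · have hK1 : ∀ k ∈ K, k = 1 := fun k hk => by
        have hkA : k ∈ A := by
          have : k ∈ A ⊔ A := hP ▸ Subgroup.mem_sup_left hk
          rwa [sup_idem] at this
        exact disjoint_pq hp hq hqp.symm hK (hDp A hA) hk hkA
      exact ⟨fun k hk l _ => by rw [hK1 k hk]; exact Commute.one_left l, fun k hk _ => hK1 k hk⟩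
    obtain ⟨K', hK', hAK', hP', -, -, hc2⟩ := hshape' A hA B hB hne
    obtain rfl := huniq A hA B hB K K' hK hK' hAK hAK' hP hP'
    refine ⟨fun k hk l hl => commutatorElement_eq_one_iff_commute.1 ?_, fun k hk hka => ?_⟩
    · by_contra h1
      refine hz ((hzc A hA B hB hne K hK hAK hP).2 ⟨⁅k, l⁆, ?_, h1, fun a ha => ?_⟩)
      · exact mul_mem (mul_mem (mul_mem hk hl) (inv_mem hk)) (inv_mem hl)
      · exact (hc2 k hk l hl a (Subgroup.mem_sup_left ha)).symm
    · by_contra h1
      exact hz ((hzc A hA B hB hne K hK hAK hP).2 ⟨k, hk, h1, hka⟩)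
  -- the group is of odd order
  have hodd := odd_card odd h hgood
  refine ⟨hodd.of_dvd_nat (Subgroup.card_quotient_dvd_card _), ?_⟩
  obtain ⟨Q, hQn, hQ, hQA⟩ := exists_normal_q odd _ G D p q h rfl hodd
  haveI := hQn
  have hQA₀ := hQA A₀ hA₀
  have hAQ : A₀ ≤ normalizer (Q : Set G) := (le_top).trans_eq (Subgroup.normalizer_eq_top Q).symm
  have hfix : ∀ c ∈ Q, (∀ a ∈ A₀, Commute c a) → c ∈ Subgroup.center G := by
    intro c hc hca
    rcases hgood with hT | hS
    · rw [triv_fixed _ G D p q h hT rfl A₀ Q hA₀ hQn hQ hQA₀ c hc hca]; exact one_mem _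
    · exact Subgroup.mem_center_iff.2 fun g =>
        (((hS ⊤ Q A₀ hA₀ (h.gen.ge.trans (sSup_le fun A hA => le_sSup ⟨hA, le_top⟩)) hQ
          ((le_top).trans_eq (Subgroup.normalizer_eq_top Q).symm) hQA₀).1 c hc hca) g (mem_top g)).eq.symm
  set Z := Subgroup.center G
  set f := QuotientGroup.mk' Z
  obtain ⟨a₀, ha₀, ha₀1⟩ := h.exists_ne_one hA₀
  have ha₀Z : a₀ ∉ Z := by
    intro hz
    obtain ⟨b, hb, hb1⟩ := h.exists_ne_one hB₀
    exact hne₀ (h.eq_of_commute hA₀ hB₀ ha₀ hb ha₀1 hb1 (Subgroup.mem_center_iff.1 hz b).symm)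
  have hcardH : Nat.card (A₀.map f) = p := by
    refine h.card_map f (fun A hA hle => ?_) hA₀
    rw [QuotientGroup.ker_mk'] at hle
    obtain ⟨g, rfl⟩ := h.exists_conj hA₀ hA
    apply ha₀Z
    have := hle (show g * a₀ * g⁻¹ ∈ MulAut.conj g • A₀ by rw [mem_conj_smul_iff]; simpa [mul_assoc] using ha₀)
    rw [Subgroup.mem_center_iff.1 this g |> fun e => show g * a₀ * g⁻¹ = a₀ by
      calc g * a₀ * g⁻¹ = g⁻¹ * (g * (g * a₀ * g⁻¹)) := by group
        _ = g⁻¹ * (g * a₀ * g⁻¹ * g) := by rw [e]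
        _ = a₀ := by group] at this
    exact this
  refine ⟨A₀.map f, ?_, ?_, ?_⟩
  · intro e
    rw [e, Subgroup.card_bot] at hcardH
    exact hp.ne_one hcardH.symm
  · intro e
    refine hcomm_of fun A hA B hB a ha b hb => ?_
    have hmem : ∀ g : G, ∃ i : ℤ, ∃ z ∈ Z, g = a₀ ^ i * z := by
      intro g
      obtain ⟨x, hx, hxg⟩ : f g ∈ A₀.map f := e ▸ mem_top _
      obtain ⟨i, hi⟩ := Subgroup.mem_zpowers_iff.1 (hne1 A₀ hA₀ a₀ ha₀ ha₀1 ▸ hx : x ∈ zpowers a₀)
      exact ⟨i, x⁻¹ * g, (QuotientGroup.eq).1 hxg, by rw [hi, mul_inv_cancel_left]⟩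
    obtain ⟨i, z, hz, rfl⟩ := hmem a
    obtain ⟨j, w, hw, rfl⟩ := hmem b
    have hz' : ∀ x, Commute z x := fun x => (Subgroup.mem_center_iff.1 hz x).symm
    have hw' : ∀ x, Commute w x := fun x => (Subgroup.mem_center_iff.1 hw x).symm
    exact ((((Commute.refl a₀).zpow_left i).zpow_right j).mul_left (hz' _)).mul_right (hw' _).symm
  · intro g hg
    rw [eq_bot_iff]
    rintro x ⟨hx, hx'⟩
    rw [Subgroup.mem_bot]
    by_contra hx1
    apply hg
    obtain ⟨g, rfl⟩ := QuotientGroup.mk'_surjective Z g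
    have hgen : ∀ y ∈ A₀.map f, y ∈ zpowers x := by
      intro y hy
      have : zpowers x = A₀.map f := by
        refine Subgroup.eq_of_le_of_card_ge (zpowers_le.2 hx) ?_
        rw [hcardH, Nat.card_zpowers]
        refine (orderOf_eq_prime ?_ hx1).ge
        have := pow_card_eq_one' (x := (⟨x, hx⟩ : A₀.map f))
        rw [hcardH] at this
        simpa using congrArg Subtype.val this
      rw [this]; exact hy
    obtain ⟨i, hi⟩ : ∃ i : ℤ, x ^ i = f (g * a₀ * g⁻¹) := by
      have h1 : f (g * a₀ * g⁻¹) ∈ MulAut.conj (f g) • A₀.map f := by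
        rw [← map_conj_smul]
        exact ⟨_, show g * a₀ * g⁻¹ ∈ MulAut.conj g • A₀ by rw [mem_conj_smul_iff]; simpa [mul_assoc] using ha₀, rfl⟩
      have : MulAut.conj (f g) • A₀.map f ≤ zpowers x := by
        refine (Subgroup.eq_of_le_of_card_ge (zpowers_le.2 hx') ?_).ge
        rw [card_conj_smul, hcardH, Nat.card_zpowers]
        refine (orderOf_eq_prime ?_ hx1).ge
        have := pow_card_eq_one' (x := (⟨x, hx⟩ : A₀.map f))
        rw [hcardH] at this
        simpa using congrArg Subtype.val this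
      exact Subgroup.mem_zpowers_iff.1 (this h1)
    obtain ⟨c, hc, hcx⟩ := (Subgroup.zpow_mem (A₀.map f) hx i)
    have hz : c⁻¹ * (g * a₀ * g⁻¹) ∈ Z := (QuotientGroup.eq).1 (hcx.trans hi)
    have hcomm : Commute a₀ (g * a₀ * g⁻¹) := by
      rw [show g * a₀ * g⁻¹ = c * (c⁻¹ * (g * a₀ * g⁻¹)) by group]
      obtain ⟨j, hj⟩ := Subgroup.mem_zpowers_iff.1 (hne1 A₀ hA₀ a₀ ha₀ ha₀1 ▸ hc : c ∈ zpowers a₀)
      exact (hj ▸ (Commute.refl a₀).zpow_right j).mul_right (Subgroup.mem_center_iff.1 hz a₀)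
    have hfixg : MulAut.conj g • A₀ = A₀ := (h.eq_of_commute hA₀ (hinv A₀ hA₀ g) ha₀
      (by rw [mem_conj_smul_iff]; simpa [mul_assoc] using ha₀) ha₀1
      (fun e => ha₀1 (by simpa using e)) hcomm).symm
    obtain ⟨y, hy, a, ha, rfl⟩ := (mem_sup_iff hAQ).1 (hQA₀ ▸ mem_top g)
    rw [← conj_smul_mul, Subgroup.conj_smul_eq_self_of_mem ha] at hfixg
    have hyz := hfix y hy (commute_of_normalize hp hq hqp.symm hQ (hDp A₀ hA₀) hAQ hy (conj_smul_eq_iff.1 hfixg))
    refine ⟨a, ha, ?_⟩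
    rw [map_mul, show f y = 1 from (QuotientGroup.eq_one_iff y).2 hyz, one_mul]

end CfsgLib.AfterFT.PairGen
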