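import Cfsg.Agent.Lib.AfterFT.PairGen.Invol
import Cfsg.Agent.Lib.ZStar.Fusion

/-!
The character argument: there is no minimal group of even order.
-/

set_option autoImplicit false
set_option linter.unusedSectionVars false
set_option linter.style.haveILetI false

namespace CfsgLib.AfterFT.PairGen

open Cfsg Subgroup CfsgLib CfsgLib.Blocks CfsgLib.CharTheory
open scoped Pointwise

universe u

theorem min_false (G : Type u) [Group G] [Finite G] (D : Set (Subgroup G)) (p q : ℕ) (h : Min D p q) : False := by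
  classical
  letI := Fintype.ofFinite G
  haveI : Fact (Nat.Prime 2) := ⟨Nat.prime_two⟩
  obtain ⟨y, hy, hgood⟩ := h.exists_good
  obtain ⟨A, hA⟩ := h.hyp.nonempty
  obtain ⟨a, ha, ha1⟩ := h.hyp.exists_ne_one hA
  obtain ⟨M, hM⟩ := CfsgLib.ZStar.exists_isPModular Nat.prime_two
  set B := principalBlock M G with hBdef
  have hB : IsPBlock M B := principalBlock_isPBlock
  have hG0 : (Nat.card G : ℂ) ≠ 0 := Nat.cast_ne_zero.2 Nat.card_pos.ne'
  have hcls : ∀ (χ : IrrCharacter G) (u v : G), IsConj u v → (χ : G → ℂ) u = (χ : G → ℂ) v := by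
    intro χ u v huv
    obtain ⟨c, rfl⟩ := isConj_iff.1 huv
    exact (irr_isClassFun χ u c).symm
  -- the relation for the members of the principal block
  have hrel : ∀ χ ∈ bset B, (χ : G → ℂ) y * ((χ : G → ℂ) a - (χ : G → ℂ) 1) = 0 := by
    intro χ hχ
    have hval : ∀ g : G, (χ : G → ℂ) (g * a * g⁻¹ * y) = (χ : G → ℂ) y := by
      intro g
      have hb : g * a * g⁻¹ ∈ MulAut.conj g • A := by rw [mem_conj_smul_iff]; simpa [mul_assoc] using ha
      obtain ⟨w, hw, hc⟩ := hgood _ (h.hyp.inv A hA g) _ hb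
      rw [hcls χ _ _ hc]
      exact Cfsg.Agent.S0942.result 2 M hM y ⟨1, by rw [hy, pow_one]⟩ w hw χ (mem_bset.1 hχ)
    have hsum := CfsgLib.ZStar.sum_conj_shift χ a y
    rw [Finset.sum_congr rfl fun g _ => hval g, Finset.sum_const, Finset.card_univ, nsmul_eq_mul,
      ← Nat.card_eq_fintype_card, mul_assoc] at hsum
    have h1 := mul_left_cancel₀ hG0 hsum
    have h0 := irr_one_ne_zero χ
    field_simp at h1
    linear_combination -h1
  have horth := block_orth hM hB (g := y) (h := 1) (x := y) (y := 1)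
    ⟨1, mul_one y, Commute.one_right y, ⟨1, by rw [hy, pow_one]⟩, by rw [orderOf_one]; norm_num⟩
    ⟨1, mul_one 1, Commute.one_right 1, ⟨0, by rw [orderOf_one, pow_zero]⟩, by rw [orderOf_one]; norm_num⟩
    (fun hc => by rw [isConj_one_left] at hc; rw [hc, orderOf_one] at hy; norm_num at hy)
  have hgen : Subgroup.normalClosure ({a} : Set G) = ⊤ := by
    refine h.hyp.eq_top_of_normal hA ?_
    rw [h.hyp.eq_zpowers hA ha ha1, zpowers_le]
    exact Subgroup.subset_normalClosure rfl
  have hone : (oneIrr G : IrrCharacter G) ∈ bset B := mem_bset.2 (oneIrr_mem hM)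
  rw [Finset.sum_eq_single_of_mem _ hone] at horth
  · simp [oneIrr] at horth
  · intro χ hχ hne
    rcases mul_eq_zero.1 (hrel χ hχ) with h0 | h0
    · rw [h0, zero_mul]
    · exact absurd (Subtype.ext (CfsgLib.ZStar.eq_one_of_apply_eq χ (sub_eq_zero.1 h0) hgen)) hne

/-- The order is odd. -/
theorem odd_card (odd : ∀ (H : Type u) [Group H] [Finite H], Odd (Nat.card H) → Group.IsSolvable H)
    {G : Type u} [Group G] [Finite G] {D : Set (Subgroup G)} {p q : ℕ} (h : Hyp D p q) (hg : Good D q) :
    Odd (Nat.card G) :=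
  exists_min_or_odd odd min_false _ G D p q h hg rfl

end CfsgLib.AfterFT.PairGen
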