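import Cfsg.Agent.Lib.AfterFT.PairGen.Structure

/-!
Reduction of the parity statement to a group with trivial odd core and trivial centre.
-/

set_option autoImplicit false
set_option linter.unusedSectionVars false
set_option linter.style.haveILetI false

namespace CfsgLib.AfterFT.PairGen

open Subgroup CfsgLib
open scoped Pointwise

universe u
variable {G : Type u} [Group G]

/-- One of the two alternatives. -/
def Good (D : Set (Subgroup G)) (q : ℕ) : Prop := Triv D q ∨ Special D q

/-- The data of a minimal group of even order. -/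
structure Min (D : Set (Subgroup G)) (p q : ℕ) : Prop where
  hyp : Hyp D p q
  good : Good D q
  odd : ∀ (H : Type u) [Group H] [Finite H], Odd (Nat.card H) → Group.IsSolvable H
  even : ¬ Odd (Nat.card G)
  sub_odd : ∀ J : Subgroup G, IsGen D J → J ≠ ⊤ → Odd (Nat.card J)
  no_odd : ∀ N : Subgroup G, N.Normal → Odd (Nat.card N) → N = ⊥
  center : Subgroup.center G = ⊥

namespace Hyp

variable [Finite G] {D : Set (Subgroup G)} {p q : ℕ} (h : Hyp D p q)
include h

/-- A subgroup generated by members has no central Sylow 2-subgroup of order 2. -/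
theorem odd_of_central {J : Subgroup G} (hJ : IsGen D J) (T : Subgroup J) (hT : Nat.card T = 2)
    (hc : T ≤ Subgroup.center J) : ¬ Odd T.index := by
  intro hodd
  haveI : IsMulCommutative T :=
    ⟨⟨fun x y => Subtype.ext (Subgroup.mem_center_iff.1 (hc y.2) x)⟩⟩
  letI : CommGroup T := { (inferInstance : Group T) with mul_comm := fun a b => IsMulCommutative.is_comm.comm a b }
  let V : J →* T := MonoidHom.transfer (MonoidHom.id T)
  obtain ⟨t, ht⟩ : ∃ t : T, t ≠ 1 := by
    haveI : Nontrivial T := Finite.one_lt_card_iff_nontrivial.1 (by omega)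
    exact exists_ne 1
  have ht2 : t ^ 2 = 1 := by rw [← hT]; exact pow_card_eq_one'
  have hV : V t = t ^ T.index := by
    have := MonoidHom.transfer_eq_pow (MonoidHom.id T) (t : J) fun k g₀ hk => by
      rw [mul_assoc, ← Subgroup.mem_center_iff.1 (hc (pow_mem t.2 k)) g₀, inv_mul_cancel_left]
    exact this.trans (Subtype.ext rfl)
  have hker : J ≤ V.ker.map J.subtype := by
    refine hJ.trans (sSup_le fun A hA => ?_)
    intro a ha
    refine ⟨⟨a, hA.2 ha⟩, ?_, rfl⟩
    rw [SetLike.mem_coe, MonoidHom.mem_ker, ← orderOf_eq_one_iff]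
    refine Nat.eq_one_of_dvd_coprimes ?_ (orderOf_dvd_of_pow_eq_one
      (show V _ ^ 2 = 1 by rw [← hT]; exact pow_card_eq_one'))
      (orderOf_dvd_of_pow_eq_one (show V _ ^ p = 1 by
        rw [← map_pow, show (⟨a, hA.2 ha⟩ : J) ^ p = 1 from Subtype.ext (h.pow_p hA.1 ha), map_one]))
    exact (Nat.coprime_primes Nat.prime_two h.pp).2 (Ne.symm h.p_odd)
  have hVt : V t = 1 := (Subgroup.mem_map_iff_mem J.subtype_injective).1 (hker (t : J).2)
  rw [hV] at hVt
  obtain ⟨m, hm⟩ := hodd
  rw [hm, pow_succ, pow_mul, ht2, one_pow, one_mul] at hVt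
  exact ht hVt

section map

variable {H : Type u} [Group H] [Finite H] (f : G →* H)
  (odd : ∀ (H : Type u) [Group H] [Finite H], Odd (Nat.card H) → Group.IsSolvable H)

include odd in
theorem map_special (hS : Special D q) (hker : ∀ A ∈ D, ¬ A ≤ f.ker) (hf : Function.Surjective f)
    (hlift : ∀ J : Subgroup G, IsGen D J → Odd (Nat.card (J.map f)) → Odd (Nat.card J)) :
    Special (Subgroup.map f '' D) q := by
  rintro J' Q' _ ⟨A₀, hA₀, rfl⟩ hgen hQ' hn hJ'
  set J := core D (J'.comap f) with hJdef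
  have hJgen : IsGen D J := isGen_core _ _
  have hmap : J.map f = J' := by
    refine le_antisymm (Subgroup.map_le_iff_le_comap.2 (core_le _ _)) (hgen.trans (sSup_le ?_))
    rintro _ ⟨⟨B, hB, rfl⟩, hle⟩
    exact Subgroup.map_mono (le_core hB (Subgroup.map_le_iff_le_comap.1 hle))
  have hA₀J : A₀ ≤ J := le_core hA₀ (Subgroup.map_le_iff_le_comap.1 (hJ' ▸ le_sup_right))
  have hodd : Odd (Nat.card J) := hlift J hJgen (by
    rw [hmap, ← hJ']
    exact (h.map f hf hker).odd_of_sup ⟨A₀, hA₀, rfl⟩ hQ' (le_trans (hJ' ▸ le_sup_right) hn))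
  have hsub := h.sub hJgen ⟨A₀, hA₀, hA₀J⟩
  obtain ⟨Q₁, hQ₁n, hQ₁, hQ₁A⟩ := exists_normal_q odd _ J _ p q hsub rfl hodd
  set Q := Q₁.map J.subtype
  have hQA : Q ⊔ A₀ = J := by
    have := congrArg (Subgroup.map J.subtype) (hQ₁A (A₀.subgroupOf J)
      (show _ ∈ D by rw [map_subgroupOf_eq hA₀J]; exact hA₀))
    rwa [Subgroup.map_sup, map_subgroupOf_eq hA₀J, ← MonoidHom.range_eq_map, Subgroup.range_subtype] at this
  have hQn : J ≤ normalizer (Q : Set G) := by
    haveI := hQ₁n
    have := Subgroup.le_normalizer_map J.subtype (H := Q₁)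
    rwa [Subgroup.normalizer_eq_top Q₁, ← MonoidHom.range_eq_map, Subgroup.range_subtype] at this
  obtain ⟨h1, h2⟩ := hS J Q A₀ hA₀ hJgen (hQ₁.map _) hQn hQA
  have hQ'le : Q' ≤ Q.map f := by
    intro x hx
    obtain ⟨i, hi⟩ := hQ' ⟨x, hx⟩
    refine mem_left_of_qElement h.pp h.qp h.pq (h.card_map f hker hA₀)
      ((Subgroup.map_mono (hA₀J.trans hQn)).trans (Subgroup.le_normalizer_map f)) ?_ (congrArg Subtype.val hi)
    rw [← Subgroup.map_sup, hQA, hmap, ← hJ']
    exact Subgroup.mem_sup_left hx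
  refine ⟨fun c hc hca x hx => ?_, fun x hx y hy a ha => ?_⟩
  · obtain ⟨k, hk, rfl⟩ := hQ'le hc
    obtain ⟨x, hxJ, rfl⟩ := hmap.ge hx
    obtain ⟨d, ⟨hdQ, hdA⟩, hdk⟩ := CfsgLib.coprime_fixed_quotient (N := Q ⊓ f.ker) (hA₀J.trans hQn)
      (h.coprime_A hA₀ (hQ₁.map _)) (Or.inl (h.solvable_A hA₀)) inf_le_left
      ((le_inf le_normalizer ((le_top).trans_eq (Subgroup.normalizer_eq_top f.ker).symm)).trans
        Subgroup.inf_normalizer_le_normalizer_inf)
      ((le_inf (hA₀J.trans hQn) ((le_top).trans_eq (Subgroup.normalizer_eq_top f.ker).symm)).trans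
        Subgroup.inf_normalizer_le_normalizer_inf)
      hk (fun a ha => ⟨by
        have := Q.mul_mem ((Subgroup.mem_normalizer_iff.mp (hQn (hA₀J ha)) k).mp hk) (Q.inv_mem hk)
        simpa [mul_assoc] using this, by
        show a * k * a⁻¹ * k⁻¹ ∈ f.ker
        rw [MonoidHom.mem_ker, map_mul, map_mul, map_mul, map_inv, map_inv, ← (hca (f a) ⟨a, ha, rfl⟩).eq]
        group⟩)
    have e : f k = f d := by
      have : k⁻¹ * d ∈ f.ker := hdk.2
      rw [MonoidHom.mem_ker, map_mul, map_inv, inv_mul_eq_one] at this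
      exact this
    rw [e]
    exact (h1 d hdQ (fun a ha => (Subgroup.mem_centralizer_iff.1 hdA a ha).symm) x hxJ).map f
  · obtain ⟨x, hx', rfl⟩ := hQ'le hx
    obtain ⟨y, hy', rfl⟩ := hQ'le hy
    obtain ⟨a, ha, rfl⟩ := ha
    simpa using (h2 x hx' y hy' a ha).map f

end map

end Hyp

theorem exists_min_or_odd
    (odd : ∀ (H : Type u) [Group H] [Finite H], Odd (Nat.card H) → Group.IsSolvable H)
    (hmin : ∀ (G : Type u) [Group G] [Finite G] (D : Set (Subgroup G)) (p q : ℕ), Min D p q → False) :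
    ∀ (n : ℕ) (G : Type u) [Group G] [Finite G] (D : Set (Subgroup G)) (p q : ℕ), Hyp D p q → Good D q →
      Nat.card G = n → Odd n := by
  intro n
  induction n using Nat.strong_induction_on with
  | _ n ih =>
  intro G _ _ D p q h hg hn
  subst hn
  by_contra heven
  have hsub : ∀ J : Subgroup G, IsGen D J → J ≠ ⊤ → Odd (Nat.card J) := by
    intro J hJ hne
    by_cases hm : ∃ A ∈ D, A ≤ J
    · refine ih _ ?_ J _ p q (h.sub hJ hm) (hg.imp (fun t => h.sub_triv t) (fun s => h.sub_special s)) rfl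
      exact lt_of_le_of_ne (Subgroup.card_le_card_group J) fun e => hne (Subgroup.eq_top_of_card_eq J e)
    · have : J = ⊥ := le_bot_iff.1 (hJ.trans (sSup_le fun A hA => absurd ⟨A, hA.1, hA.2⟩ hm))
      rw [this, Subgroup.card_bot]; exact odd_one
  -- quotients
  have hquot : ∀ N : Subgroup G, [N.Normal] → N ≠ ⊥ → (∀ A ∈ D, ¬ A ≤ N) →
      (∀ J : Subgroup G, IsGen D J → Odd (Nat.card (J.map (QuotientGroup.mk' N))) → Odd (Nat.card J)) →
      Odd (Nat.card (G ⧸ N)) := by
    intro N _ hN hA hlift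
    have hker : ∀ A ∈ D, ¬ A ≤ (QuotientGroup.mk' N).ker := by rwa [QuotientGroup.ker_mk']
    have hsurj := QuotientGroup.mk'_surjective N
    refine ih _ ?_ (G ⧸ N) _ p q (h.map _ hsurj hker)
      (hg.imp (fun t => h.map_triv _ t hker hsurj) (fun s => h.map_special _ odd s hker hsurj hlift)) rfl
    rw [Subgroup.card_eq_card_quotient_mul_card_subgroup N]
    exact lt_mul_of_one_lt_right Nat.card_pos (Subgroup.one_lt_card_iff_ne_bot N |>.2 hN)
  have hcore : ∀ N : Subgroup G, N.Normal → Odd (Nat.card N) → N = ⊥ := by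
    intro N hNn hNodd
    haveI := hNn
    by_contra hne
    by_cases hA : ∃ A ∈ D, A ≤ N
    · obtain ⟨A, hA, hAN⟩ := hA
      rw [h.eq_top_of_normal hA hAN, Subgroup.card_top] at hNodd
      exact heven hNodd
    push Not at hA
    refine heven ?_
    rw [Subgroup.card_eq_card_quotient_mul_card_subgroup N]
    refine (hquot N hne hA fun J _ hJ => ?_).mul hNodd
    have := Subgroup.card_mul_index ((QuotientGroup.mk' N).subgroupMap J).ker
    rw [Subgroup.index_ker, MonoidHom.range_eq_top.2 (MonoidHom.subgroupMap_surjective _ _), Subgroup.card_top] at this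
    rw [← this]
    refine Odd.mul ?_ hJ
    refine hNodd.of_dvd_nat ?_
    let g : ((QuotientGroup.mk' N).subgroupMap J).ker →* N :=
      (J.subtype.comp (Subgroup.subtype _)).codRestrict N fun x =>
        (QuotientGroup.eq_one_iff _).1 (congrArg Subtype.val x.2)
    refine Subgroup.card_dvd_of_injective g fun x y e => ?_
    exact Subtype.ext (Subtype.ext (congrArg (fun z : N => (z : G)) e))
  refine hmin G D p q ⟨h, hg, odd, heven, hsub, hcore, ?_⟩
  by_contra hZ
  obtain ⟨r, hr, hrZ⟩ : ∃ r, r.Prime ∧ r ∣ Nat.card (Subgroup.center G) :=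
    Nat.exists_prime_and_dvd fun e => hZ (Subgroup.eq_bot_of_card_eq _ e)
  haveI : Fact r.Prime := ⟨hr⟩
  obtain ⟨z, hz⟩ := exists_prime_orderOf_dvd_card' r hrZ
  set N := zpowers (z : G) with hN
  have hzc : ∀ g : G, g * (z : G) = (z : G) * g := Subgroup.mem_center_iff.1 z.2
  haveI hNn : N.Normal := by
    refine ⟨fun x hx g => ?_⟩
    rw [Subgroup.mem_center_iff.1 ((zpowers_le.2 z.2) hx) g, mul_inv_cancel_right]
    exact hx
  have hcard : Nat.card N = r := by rw [Nat.card_zpowers, Subgroup.orderOf_coe, hz]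
  have hN1 : N ≠ ⊥ := fun e => hr.ne_one (by rw [← hcard, e, Subgroup.card_bot])
  rcases hr.eq_two_or_odd' with rfl | hrodd
  swap
  · exact hN1 (hcore N hNn (hcard ▸ hrodd))
  have hA : ∀ A ∈ D, ¬ A ≤ N := by
    intro A hA hle
    have := Subgroup.card_dvd_of_le hle
    rw [h.card A hA, hcard] at this
    exact h.p_odd ((Nat.prime_dvd_prime_iff_eq h.pp Nat.prime_two).1 this)
  -- generated subgroups with odd image are odd
  have hlift : ∀ J : Subgroup G, IsGen D J → Odd (Nat.card (J.map (QuotientGroup.mk' N))) → Odd (Nat.card J) := by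
    intro J hJ hJo
    set T := ((QuotientGroup.mk' N).subgroupMap J).ker with hT
    have hidx : T.index = Nat.card (J.map (QuotientGroup.mk' N)) := by
      rw [Subgroup.index_ker, MonoidHom.range_eq_top.2 (MonoidHom.subgroupMap_surjective _ _), Subgroup.card_top]
    let g : T →* N := (J.subtype.comp (Subgroup.subtype _)).codRestrict N fun x =>
        (QuotientGroup.eq_one_iff _).1 (congrArg Subtype.val x.2)
    have hd : Nat.card T ∣ 2 := hcard ▸ Subgroup.card_dvd_of_injective g fun x y e =>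
      Subtype.ext (Subtype.ext (congrArg (fun z : N => (z : G)) e))
    rcases (Nat.dvd_prime Nat.prime_two).1 hd with h1 | h1
    · rw [← Subgroup.card_mul_index T, h1, one_mul, hidx]; exact hJo
    · refine absurd (hidx ▸ hJo) (h.odd_of_central hJ T h1 fun x hx => ?_)
      rw [Subgroup.mem_center_iff]
      intro y
      exact Subtype.ext (Subgroup.mem_center_iff.1 ((zpowers_le.2 z.2) ((QuotientGroup.eq_one_iff _).1
        (congrArg Subtype.val hx))) y)
  have hq := hquot N hN1 hA hlift
  have htopgen : IsGen D ⊤ := h.gen.symm.le.trans (sSup_le fun A hA => le_sSup ⟨hA, le_top⟩)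
  refine heven ?_
  have := hlift ⊤ htopgen (by
    rw [Subgroup.map_top_of_surjective _ (QuotientGroup.mk'_surjective N), Subgroup.card_top]; exact hq)
  rwa [Subgroup.card_top] at this

end CfsgLib.AfterFT.PairGen
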