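import Cfsg.Agent.Lib.AfterFT.PairGen.Basic
import Cfsg.Agent.Lib.CoprimeAbelian
import Cfsg.Agent.Lib.Glauberman.Solvable
import Cfsg.Agent.Lib.Basic
import Mathlib.GroupTheory.Nilpotent

/-!
The structure `G = Q A` in odd order, and the two alternatives for the fixed points of `A` in `Q`.
-/

set_option autoImplicit false
set_option linter.unusedSectionVars false
set_option linter.style.haveILetI false
set_option maxHeartbeats 800000

namespace CfsgLib.AfterFT.PairGen

open Subgroup CfsgLib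
open scoped Pointwise commutatorElement

universe u
variable {G : Type u} [Group G]

theorem smul_mem_pair {A K : Subgroup G} {k : G} (hk : k ∈ K) : MulAut.conj k • A ≤ K ⊔ A := by
  intro x hx
  rw [mem_conj_smul_iff] at hx
  have := mul_mem (mul_mem (Subgroup.mem_sup_left hk : k ∈ K ⊔ A) (Subgroup.mem_sup_right hx))
    (inv_mem (Subgroup.mem_sup_left hk : k ∈ K ⊔ A))
  simpa [mul_assoc] using this

namespace Hyp

variable [Finite G] {D : Set (Subgroup G)} {p q : ℕ} (h : Hyp D p q)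
include h

theorem eq_top_of_normal {A N : Subgroup G} [hN : N.Normal] (hA : A ∈ D) (hAN : A ≤ N) : N = ⊤ := by
  refine h.eq_top_of_forall_le fun B hB => ?_
  obtain ⟨k, rfl⟩ := h.exists_conj hA hB
  intro x hx
  rw [mem_conj_smul_iff] at hx
  have := hN.conj_mem _ (hAN hx) k
  simpa [mul_assoc] using this

/-- If `Q A` contains the conjugates of `A` by everything then it is everything. -/
theorem sup_eq_top {A Q : Subgroup G} (hA : A ∈ D)
    (hconj : ∀ B ∈ D, ∃ x ∈ Q, MulAut.conj x • A = B) : Q ⊔ A = ⊤ := by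
  refine h.eq_top_of_forall_le fun B hB => ?_
  obtain ⟨x, hx, rfl⟩ := hconj B hB
  exact smul_mem_pair hx

theorem conj_of_top {A Q : Subgroup G} (hA : A ∈ D) (hAQ : A ≤ normalizer (Q : Set G)) (hQA : Q ⊔ A = ⊤)
    {B : Subgroup G} (hB : B ∈ D) : ∃ x ∈ Q, MulAut.conj x • A = B := by
  obtain ⟨g, rfl⟩ := h.exists_conj hA hB
  obtain ⟨x, hx, a, ha, rfl⟩ := (mem_sup_iff hAQ).1 (hQA ▸ mem_top g)
  exact ⟨x, hx, by rw [← conj_smul_mul, Subgroup.conj_smul_eq_self_of_mem ha]⟩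

theorem isPGroup_q_le {A B K : Subgroup G} (hK : IsPGroup q K) (hAK : A ≤ normalizer (K : Set G))
    (hP : A ⊔ B = K ⊔ A) {r : ℕ} (hr : r.Prime) (hrq : r ≠ q) (hAB : IsPGroup r (A ⊔ B : Subgroup G)) :
    B ≤ A := by
  haveI : Fact q.Prime := ⟨h.qp⟩
  haveI : Fact r.Prime := ⟨hr⟩
  intro b hb
  obtain ⟨k, hk, a, ha, rfl⟩ := (mem_sup_iff hAK).1 (hP ▸ (le_sup_right : B ≤ A ⊔ B) hb)
  have hk1 : k = 1 := by
    obtain ⟨i, hi⟩ := hK ⟨k, hk⟩
    obtain ⟨j, hj⟩ := hAB ⟨k, hP ▸ Subgroup.mem_sup_left hk⟩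
    rw [← orderOf_eq_one_iff]
    refine Nat.eq_one_of_dvd_coprimes ?_ (orderOf_dvd_of_pow_eq_one (congrArg Subtype.val hi))
      (orderOf_dvd_of_pow_eq_one (congrArg Subtype.val hj))
    exact Nat.Coprime.pow _ _ ((Nat.coprime_primes h.qp hr).2 hrq.symm)
  simpa [hk1] using ha

end Hyp

/-- The structure in odd order. -/
theorem exists_normal_q
    (odd : ∀ (H : Type u) [Group H] [Finite H], Odd (Nat.card H) → Group.IsSolvable H) :
    ∀ (n : ℕ) (G : Type u) [Group G] [Finite G] (D : Set (Subgroup G)) (p q : ℕ), Hyp D p q →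
      Nat.card G = n → Odd n → ∃ Q : Subgroup G, Q.Normal ∧ IsPGroup q Q ∧ ∀ A ∈ D, Q ⊔ A = ⊤ := by
  intro n
  induction n using Nat.strong_induction_on with
  | _ n ih =>
  intro G _ _ D p q h hn hodd
  subst hn
  haveI : Fact p.Prime := ⟨h.pp⟩
  haveI : Fact q.Prime := ⟨h.qp⟩
  haveI := odd G hodd
  obtain ⟨A₀, hA₀⟩ := h.nonempty
  obtain ⟨a₀, ha₀, ha₀1⟩ := h.exists_ne_one hA₀
  haveI : Nontrivial G := ⟨⟨a₀, 1, ha₀1⟩⟩
  obtain ⟨r, N, hr, hNn, hN1, hNr⟩ := CfsgLib.Glauberman.exists_normal_pgroup G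
  haveI := hNn
  haveI : Fact r.Prime := ⟨hr⟩
  by_cases hAN : ∃ A ∈ D, A ≤ N
  · obtain ⟨A, hA, hAN⟩ := hAN
    have hNtop := h.eq_top_of_normal hA hAN
    have hrp : r = p := by
      obtain ⟨a, ha, ha1⟩ := h.exists_ne_one hA
      obtain ⟨j, hj⟩ := hNr ⟨a, hAN ha⟩
      have := orderOf_dvd_of_pow_eq_one (show a ^ r ^ j = 1 from congrArg Subtype.val hj)
      rw [orderOf_eq_prime (h.pow_p hA ha) ha1] at this
      exact ((Nat.prime_dvd_prime_iff_eq h.pp hr).1 (h.pp.dvd_of_dvd_pow this)).symm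
    refine ⟨⊥, inferInstance, IsPGroup.of_bot, fun B hB => ?_⟩
    rw [bot_sup_eq]
    refine h.eq_top_of_forall_le fun C hC => ?_
    obtain ⟨K, hK, hBK, hP⟩ := h.pair B hB C hC
    exact h.isPGroup_q_le hK hBK hP hr (hrp ▸ h.pq) (hNr.to_le (hNtop ▸ le_top))
  push Not at hAN
  have hker : ∀ A ∈ D, ¬ A ≤ (QuotientGroup.mk' N).ker := by
    rw [QuotientGroup.ker_mk']; exact hAN
  have hQodd : Odd (Nat.card (G ⧸ N)) := hodd.of_dvd_nat (Subgroup.card_quotient_dvd_card N)
  have hlt : Nat.card (G ⧸ N) < Nat.card G := by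
    rw [Subgroup.card_eq_card_quotient_mul_card_subgroup N]
    exact lt_mul_of_one_lt_right Nat.card_pos (Subgroup.one_lt_card_iff_ne_bot N |>.2 hN1)
  obtain ⟨Qb, hQbn, hQb, hQbA⟩ := ih _ hlt (G ⧸ N) _ p q
    (h.map _ (QuotientGroup.mk'_surjective N) hker) rfl hQodd
  haveI := hQbn
  set Q' := Qb.comap (QuotientGroup.mk' N) with hQ'
  have hNQ' : N ≤ Q' := fun x hx => by
    show (QuotientGroup.mk' N) x ∈ Qb
    rw [show (QuotientGroup.mk' N) x = 1 from (QuotientGroup.eq_one_iff x).2 hx]; exact one_mem _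
  have htop : ∀ A ∈ D, Q' ⊔ A = ⊤ := by
    intro A hA
    rw [eq_top_iff]
    intro g _
    have hg : (QuotientGroup.mk' N) g ∈ Qb ⊔ A.map (QuotientGroup.mk' N) := (hQbA _ ⟨A, hA, rfl⟩) ▸ mem_top _
    obtain ⟨x, hx, _, ⟨a, ha, rfl⟩, e⟩ := Subgroup.mem_sup_of_normal_left.1 hg
    refine Subgroup.mem_sup_of_normal_left.2 ⟨g * a⁻¹, ?_, a, ha, inv_mul_cancel_right g a⟩
    show (QuotientGroup.mk' N) (g * a⁻¹) ∈ Qb
    rw [map_mul, ← e, map_inv, mul_inv_cancel_right]
    exact hx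
  by_cases hrq : r = q
  · subst hrq
    refine ⟨Q', inferInstance, hQb.comap_of_ker_isPGroup _ ?_, htop⟩
    rw [QuotientGroup.ker_mk']; exact hNr
  -- `N` is central
  have hcentral : N ≤ Subgroup.center G := by
    intro x hx
    rw [Subgroup.mem_center_iff]
    intro g
    suffices hall : ∀ A ∈ D, ∀ a ∈ A, a * x = x * a by
      have : (⊤ : Subgroup G) ≤ Subgroup.centralizer ({x} : Set G) := by
        rw [← h.gen, sSup_le_iff]
        intro A hA a ha
        rw [Subgroup.mem_centralizer_singleton_iff]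
        exact hall A hA a ha
      exact Subgroup.mem_centralizer_singleton_iff.1 (this (mem_top g))
    intro A hA a ha
    set B := MulAut.conj x • A
    have hB : B ∈ D := h.inv A hA x
    obtain ⟨K, hK, hAK, hP⟩ := h.pair A hA B hB
    have hxa : x * a * x⁻¹ ∈ B := by rw [mem_conj_smul_iff]; simpa [mul_assoc] using ha
    have hy : x * a * x⁻¹ * a⁻¹ ∈ N := by
      have := N.mul_mem hx (hNn.conj_mem _ (N.inv_mem hx) a)
      simpa [mul_assoc] using this
    suffices hy1 : x * a * x⁻¹ * a⁻¹ = 1 by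
      rw [mul_inv_eq_one, mul_inv_eq_iff_eq_mul] at hy1
      exact hy1.symm
    by_cases hrp : r = p
    · subst hrp
      have hAN' : IsPGroup r (N ⊔ A : Subgroup G) :=
        IsPGroup.to_sup_of_normal_left hNr (IsPGroup.of_card (n := 1) (by rw [h.card A hA, pow_one]))
      have hle : B ≤ A := h.isPGroup_q_le hK hAK hP hr hrq (hAN'.to_le (sup_le le_sup_right (smul_mem_pair hx)))
      have h2 : x * a * x⁻¹ * a⁻¹ ∈ A := A.mul_mem (hle hxa) (A.inv_mem ha)
      by_contra hne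
      exact hAN A hA ((h.eq_zpowers hA h2 hne).trans_le (zpowers_le.2 hy))
    · have hyP : x * a * x⁻¹ * a⁻¹ ∈ K ⊔ A := hP ▸
        mul_mem (Subgroup.mem_sup_right hxa) (inv_mem (Subgroup.mem_sup_left ha))
      obtain ⟨k, hk, b, hb, hkb⟩ := (mem_sup_iff hAK).1 hyP
      have h1 := pow_mul_mem hAK hk hb p
      rw [h.pow_p hA hb, inv_one, mul_one] at h1
      obtain ⟨i, hi⟩ := hK ⟨_, h1⟩
      have hi' : (k * b) ^ (p * q ^ i) = 1 := by
        rw [pow_mul]; exact congrArg Subtype.val hi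
      rw [hkb] at hi'
      obtain ⟨j, hj⟩ := hNr ⟨_, hy⟩
      rw [← orderOf_eq_one_iff]
      refine Nat.eq_one_of_dvd_coprimes ?_ (orderOf_dvd_of_pow_eq_one hi')
        (orderOf_dvd_of_pow_eq_one (congrArg Subtype.val hj))
      exact Nat.Coprime.mul_left (Nat.Coprime.pow_right _ ((Nat.coprime_primes h.pp hr).2 (Ne.symm hrp)))
        (Nat.Coprime.pow _ _ ((Nat.coprime_primes h.qp hr).2 (Ne.symm hrq)))
  haveI : Group.IsNilpotent Q' := by
    haveI : Group.IsNilpotent Qb := hQb.isNilpotent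
    let f : Q' →* Qb := ((QuotientGroup.mk' N).comp Q'.subtype).codRestrict Qb fun x => x.2
    refine Subgroup.isNilpotent_of_ker_le_center f ?_
    intro x hx
    have h1 : (x : G) ∈ N := (QuotientGroup.eq_one_iff _).1 (congrArg Subtype.val hx)
    rw [Subgroup.mem_center_iff]
    exact fun y => Subtype.ext (Subgroup.mem_center_iff.1 (hcentral h1) y)
  obtain ⟨P⟩ : Nonempty (Sylow q Q') := inferInstance
  haveI : (P : Subgroup Q').Normal := inferInstance
  haveI : (P : Subgroup Q').Characteristic := Sylow.characteristic_of_normal P inferInstance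
  set Q := (P : Subgroup Q').map Q'.subtype with hQdef
  haveI hQn : Q.Normal := ConjAct.normal_of_characteristic_of_normal
  refine ⟨Q, hQn, P.2.map _, fun A hA => ?_⟩
  refine h.sup_eq_top hA fun B hB => ?_
  obtain ⟨x, hx, hxB⟩ := h.conj_of_top hA ((le_top).trans_eq (Subgroup.normalizer_eq_top Q').symm) (htop A hA) hB
  -- `Q' = Q N`
  have hQN : Q' ≤ Q ⊔ N := by
    have hi : (Q' : Subgroup G) = ((P : Subgroup Q') ⊔ N.subgroupOf Q').map Q'.subtype := by
      have : (P : Subgroup Q') ⊔ N.subgroupOf Q' = ⊤ := by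
        rw [← Subgroup.index_eq_one]
        have h1 : ((P : Subgroup Q') ⊔ N.subgroupOf Q').index ∣ (P : Subgroup Q').index :=
          Subgroup.index_dvd_of_le le_sup_left
        have h2 : ((P : Subgroup Q') ⊔ N.subgroupOf Q').index ∣ (N.subgroupOf Q').index :=
          Subgroup.index_dvd_of_le le_sup_right
        have h3 : (N.subgroupOf Q').index ∣ Nat.card Qb := by
          let f : Q' →* Qb := ((QuotientGroup.mk' N).comp Q'.subtype).codRestrict Qb fun x => x.2
          have hk : f.ker = N.subgroupOf Q' := by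
            ext y
            rw [Subgroup.mem_subgroupOf, MonoidHom.mem_ker]
            exact ⟨fun e => (QuotientGroup.eq_one_iff _).1 (congrArg Subtype.val e),
              fun e => Subtype.ext ((QuotientGroup.eq_one_iff _).2 e)⟩
          rw [← hk, Subgroup.index_ker]
          exact Subgroup.card_subgroup_dvd_card _
        obtain ⟨i, hi⟩ := hQb.exists_card_eq
        have hcop : Nat.Coprime (Nat.card Qb) (P : Subgroup Q').index := by
          rw [hi]
          exact Nat.Coprime.pow_left _ (h.qp.coprime_iff_not_dvd.2 P.not_dvd_index)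
        exact Nat.eq_one_of_dvd_coprimes hcop (h2.trans h3) h1
      rw [this, ← MonoidHom.range_eq_map, Subgroup.range_subtype]
    rw [hi, Subgroup.map_sup, map_subgroupOf_eq hNQ']
  obtain ⟨y, hy, z, hz, rfl⟩ := Subgroup.mem_sup_of_normal_left.1 (hQN hx)
  refine ⟨y, hy, ?_⟩
  rw [← hxB, ← conj_smul_mul]
  congr 1
  symm
  ext w
  rw [mem_conj_smul_iff, show z⁻¹ * w * z = w by
    rw [mul_assoc, Subgroup.mem_center_iff.1 (hcentral hz) w, inv_mul_cancel_left]]

/-- Every pair has a fixed point of `A` in its kernel. -/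
def NonTriv (D : Set (Subgroup G)) (q : ℕ) : Prop :=
  ∀ A ∈ D, ∀ B ∈ D, A ≠ B → ∀ K : Subgroup G, IsPGroup q K → A ≤ normalizer (K : Set G) → A ⊔ B = K ⊔ A →
    ∃ c ∈ K, c ≠ 1 ∧ ∀ a ∈ A, Commute c a

/-- The centre of `Q`, in `G`. -/
def zc (Q : Subgroup G) : Subgroup G := Q ⊓ centralizer (Q : Set G)

theorem mem_zc {Q : Subgroup G} {z : G} : z ∈ zc Q ↔ z ∈ Q ∧ ∀ x ∈ Q, x * z = z * x := by
  rw [zc, Subgroup.mem_inf, Subgroup.mem_centralizer_iff]
  rfl

theorem zc_normal {Q : Subgroup G} [Q.Normal] : (zc Q).Normal := Subgroup.normal_inf_normal _ _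

/-- The second centre of `Q`, in `G`. -/
def IsZ2 (Q : Subgroup G) (w : G) : Prop := w ∈ Q ∧ ∀ v ∈ Q, ⁅w, v⁆ ∈ zc Q

/-- A normal subgroup of a nilpotent `Q` outside the centre meets the second centre outside it. -/
theorem exists_isZ2 [Finite G] {q : ℕ} [Fact q.Prime] {Q : Subgroup G} (hQ : IsPGroup q Q) {N : Subgroup G}
    (hNQ : N ≤ Q) (hN : ∀ x ∈ Q, ∀ y ∈ N, x * y * x⁻¹ ∈ N) (hne : ¬ N ≤ zc Q) :
    ∃ w ∈ N, w ∉ zc Q ∧ IsZ2 Q w := by
  classical
  haveI := hQ.isNilpotent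
  obtain ⟨m, hm⟩ := Group.IsNilpotent.nilpotent (G := Q)
  have hex : ∃ i, ∃ w : Q, (w : G) ∈ N ∧ w ∈ Subgroup.upperCentralSeries Q i ∧ (w : G) ∉ zc Q := by
    obtain ⟨w, hw, hwz⟩ := Set.not_subset.1 hne
    exact ⟨m, ⟨w, hNQ hw⟩, hw, hm ▸ mem_top _, hwz⟩
  obtain ⟨w, hwN, hwi, hwz⟩ := Nat.find_spec hex
  refine ⟨w, hwN, hwz, w.2, fun v hv => ?_⟩
  have h0 : Nat.find hex ≠ 0 := by
    intro e
    rw [e, Subgroup.upperCentralSeries_zero, Subgroup.mem_bot] at hwi
    exact hwz (by rw [hwi]; exact one_mem _)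
  obtain ⟨j, hj⟩ := Nat.exists_eq_succ_of_ne_zero h0
  rw [hj, Subgroup.mem_upperCentralSeries_succ_iff] at hwi
  by_contra hc
  refine Nat.find_min hex (m := j) (by omega) ⟨⁅w, (⟨v, hv⟩ : Q)⁆, ?_, hwi _, ?_⟩
  · have h1 := N.mul_mem hwN (hN v hv _ (N.inv_mem hwN))
    simpa [commutatorElement_def, mul_assoc] using h1
  · simpa [commutatorElement_def] using hc

namespace Hyp

variable [Finite G] {D : Set (Subgroup G)} {p q : ℕ} (h : Hyp D p q)
include h

theorem coprime_A {A Q : Subgroup G} (hA : A ∈ D) (hQ : IsPGroup q Q) : (Nat.card A).Coprime (Nat.card Q) := by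
  haveI : Fact q.Prime := ⟨h.qp⟩
  obtain ⟨n, hn⟩ := hQ.exists_card_eq
  rw [h.card A hA, hn]
  exact Nat.Coprime.pow_right _ ((Nat.coprime_primes h.pp h.qp).2 h.pq)

theorem solvable_A {A : Subgroup G} (hA : A ∈ D) : Group.IsSolvable A := by
  haveI : Fact p.Prime := ⟨h.pp⟩
  haveI : Group.IsNilpotent A :=
    (IsPGroup.of_card (p := p) (n := 1) (by rw [h.card A hA, pow_one])).isNilpotent
  infer_instance

theorem odd_of_sup {A Q : Subgroup G} (hA : A ∈ D) (hQ : IsPGroup q Q) (hAQ : A ≤ normalizer (Q : Set G)) :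
    Odd (Nat.card (Q ⊔ A : Subgroup G)) := by
  haveI : Fact q.Prime := ⟨h.qp⟩
  obtain ⟨n, hn⟩ := hQ.exists_card_eq
  have hdvd : Nat.card (Q ⊔ A : Subgroup G) ∣ Nat.card Q * Nat.card A := by
    haveI : (Q.subgroupOf (Q ⊔ A)).Normal :=
      (Subgroup.normal_subgroupOf_iff_le_normalizer le_sup_left).mpr (sup_le le_normalizer hAQ)
    have h1 := CfsgLib.card_sup_dvd_mul (A.subgroupOf (Q ⊔ A)) (Q.subgroupOf (Q ⊔ A))
    rw [← Subgroup.subgroupOf_sup le_sup_right le_sup_left, sup_comm A Q, Subgroup.subgroupOf_self, Subgroup.card_top,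
      Nat.card_congr (Subgroup.subgroupOfEquivOfLe (le_sup_left : Q ≤ Q ⊔ A)).toEquiv,
      Nat.card_congr (Subgroup.subgroupOfEquivOfLe (le_sup_right : A ≤ Q ⊔ A)).toEquiv, mul_comm] at h1
    exact h1
  rw [hn, h.card A hA] at hdvd
  exact (((h.qp.odd_of_ne_two h.q_odd).pow).mul (h.pp.odd_of_ne_two h.p_odd)).of_dvd_nat hdvd

theorem q_mem {A Q : Subgroup G} (hA : A ∈ D) [Q.Normal] (hQA : Q ⊔ A = ⊤) {g : G} {n : ℕ}
    (hg : g ^ q ^ n = 1) : g ∈ Q :=
  mem_left_of_qElement h.pp h.qp h.pq (h.card A hA) ((le_top).trans_eq (Subgroup.normalizer_eq_top Q).symm)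
    (hQA ▸ mem_top g) hg

theorem comm_eq {A Q : Subgroup G} (hA : A ∈ D) [hQn : Q.Normal] (hQ : IsPGroup q Q) (hQA : Q ⊔ A = ⊤) :
    ⁅Q, A⁆ = Q := by
  have hAQ : A ≤ normalizer (Q : Set G) := (le_top).trans_eq (Subgroup.normalizer_eq_top Q).symm
  refine le_antisymm (commutator_le_of_le_normalizer hAQ) fun x hx => ?_
  have hC : A ≤ normalizer ((⁅Q, A⁆ : Subgroup G) : Set G) := right_le_normalizer_commutator A Q
  have htop : ⁅Q, A⁆ ⊔ A = ⊤ := by
    refine h.eq_top_of_forall_le fun B hB => ?_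
    obtain ⟨k, hk, rfl⟩ := h.conj_of_top hA hAQ hQA hB
    intro b hb
    rw [mem_conj_smul_iff] at hb
    have := Subgroup.mul_mem_sup (Subgroup.commutator_mem_commutator hk hb) hb
    simpa [commutatorElement_def, mul_assoc] using this
  haveI : Fact q.Prime := ⟨h.qp⟩
  obtain ⟨n, hn⟩ := hQ ⟨x, hx⟩
  exact mem_left_of_qElement h.pp h.qp h.pq (h.card A hA) hC (htop ▸ mem_top x) (congrArg Subtype.val hn)

theorem cent_top {A : Subgroup G} (hA : A ∈ D) {N : Subgroup G} [hN : N.Normal]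
    (hc : ∀ x ∈ N, ∀ a ∈ A, Commute x a) : ∀ x ∈ N, ∀ g : G, Commute x g := by
  intro x hx g
  have : (⊤ : Subgroup G) ≤ centralizer (N : Set G) := by
    refine (h.eq_top_of_normal (N := centralizer (N : Set G)) hA fun a ha => ?_).ge
    rw [Subgroup.mem_centralizer_iff]
    exact fun y hy => (hc y hy a ha).eq
  exact Subgroup.mem_centralizer_iff.1 (this (mem_top g)) x hx

/-- With fixed points in every pair, abelian invariant subgroups of `Q` are centralised. -/
theorem abelian_fixed (hNT : NonTriv D q) {A S : Subgroup G} (hA : A ∈ D) (hS : IsPGroup q S)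
    [IsMulCommutative S] (hAS : A ≤ normalizer (S : Set G)) : ∀ x ∈ S, ∀ a ∈ A, Commute x a := by
  have hdisj := coprime_abelian_disjoint A S hAS (h.coprime_A hA hS)
  have hC := coprime_commutator_sup hAS (h.coprime_A hA hS) (Or.inl (h.solvable_A hA))
  suffices hbot : ⁅S, A⁆ = ⊥ by
    intro x hx a ha
    have := Subgroup.commutator_mem_commutator hx ha
    rw [hbot, Subgroup.mem_bot, commutatorElement_eq_one_iff_mul_comm] at this
    exact this
  by_contra hne
  obtain ⟨s, hs, hs1⟩ := (Subgroup.bot_or_exists_ne_one _).resolve_left hne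
  set B := MulAut.conj s • A
  have hsS : s ∈ S := commutator_le_of_le_normalizer hAS hs
  have hAB : A ≠ B := by
    intro e
    have hc := commute_of_normalize h.pp h.qp h.pq hS (h.card A hA) hAS hsS (conj_smul_eq_iff.1 e.symm)
    exact hs1 (Subgroup.mem_bot.1 (hdisj ▸ ⟨⟨hsS, fun a ha => ((hc a ha).symm).eq⟩, hs⟩))
  obtain ⟨K, hK, hAK, hP⟩ := h.pair A hA B (h.inv A hA s)
  obtain ⟨c, hcK, hc1, hca⟩ := hNT A hA B (h.inv A hA s) hAB K hK hAK hP
  have hcP : c ∈ ⁅S, A⁆ ⊔ A := by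
    have h1 : c ∈ A ⊔ B := hP ▸ Subgroup.mem_sup_left hcK
    exact (sup_le le_sup_right (smul_mem_pair hs) : A ⊔ B ≤ ⁅S, A⁆ ⊔ A) h1
  obtain ⟨n, hn⟩ := hK ⟨c, hcK⟩
  have hcS := mem_left_of_qElement h.pp h.qp h.pq (h.card A hA) (right_le_normalizer_commutator A S) hcP
    (congrArg Subtype.val hn)
  exact hc1 (Subgroup.mem_bot.1 (hdisj ▸
    ⟨⟨commutator_le_of_le_normalizer hAS hcS, fun a ha => (hca a ha).symm.eq⟩, hcS⟩))

/-- The second alternative, for the whole group. -/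
theorem special_top (hNT : NonTriv D q) {A Q : Subgroup G} (hA : A ∈ D) [hQn : Q.Normal] (hQ : IsPGroup q Q)
    (hQA : Q ⊔ A = ⊤) :
    (∀ c ∈ Q, (∀ a ∈ A, Commute c a) → ∀ x : G, Commute c x) ∧
      (∀ x ∈ Q, ∀ y ∈ Q, ∀ g : G, Commute (x * y * x⁻¹ * y⁻¹) g) := by
  haveI : Fact q.Prime := ⟨h.qp⟩
  have hAQ : A ≤ normalizer (Q : Set G) := (le_top).trans_eq (Subgroup.normalizer_eq_top Q).symm
  -- an abelian normal subgroup of `G` in `Q` is central
  have hab : ∀ S : Subgroup G, S.Normal → S ≤ Q → (∀ x ∈ S, ∀ y ∈ S, x * y = y * x) →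
      ∀ x ∈ S, ∀ g : G, Commute x g := by
    intro S hSn hSQ hSab
    haveI := hSn
    haveI : IsMulCommutative S := ⟨⟨fun x y => Subtype.ext (hSab x x.2 y y.2)⟩⟩
    exact h.cent_top hA (h.abelian_fixed hNT hA (hQ.to_le hSQ) ((le_top).trans_eq (Subgroup.normalizer_eq_top S).symm))
  have hzg : ∀ z ∈ zc Q, ∀ g : G, Commute z g :=
    hab _ zc_normal inf_le_left fun x hx y hy => ((mem_zc.1 hy).2 x (mem_zc.1 hx).1)
  -- the derived subgroup is central
  have hder : ⁅Q, Q⁆ ≤ zc Q := by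
    by_contra hne
    obtain ⟨w, hw, hwz, hw2⟩ := exists_isZ2 hQ (N := ⁅Q, Q⁆) (commutator_le_of_le_normalizer le_normalizer)
      (fun x hx y hy => (Subgroup.commutator_normal Q Q).conj_mem y hy x) hne
    -- the derived subgroup commutes with the second centre
    let S : Subgroup G :=
      { carrier := {v | v ∈ ⁅Q, Q⁆ ∧ IsZ2 Q v}
        one_mem' := ⟨one_mem _, one_mem _, fun v _ => by simp⟩
        mul_mem' := fun {a b} ha hb => ⟨mul_mem ha.1 hb.1, mul_mem ha.2.1 hb.2.1, fun v hv => by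
          have e : ⁅a * b, v⁆ = a * ⁅b, v⁆ * a⁻¹ * ⁅a, v⁆ := by simp only [commutatorElement_def]; group
          rw [e]
          exact mul_mem ((zc_normal (Q := Q)).conj_mem _ (hb.2.2 v hv) a) (ha.2.2 v hv)⟩
        inv_mem' := fun {a} ha => ⟨inv_mem ha.1, inv_mem ha.2.1, fun v hv => by
          have e : ⁅a⁻¹, v⁆ = a⁻¹ * ⁅a, v⁆⁻¹ * a⁻¹⁻¹ := by simp only [commutatorElement_def]; group
          rw [e]
          exact (zc_normal (Q := Q)).conj_mem _ (inv_mem (ha.2.2 v hv)) _⟩ }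
    have hSn : S.Normal := ⟨fun a ha g => ⟨(Subgroup.commutator_normal Q Q).conj_mem a ha.1 g,
      hQn.conj_mem a ha.2.1 g, fun v hv => by
        have e : ⁅g * a * g⁻¹, v⁆ = g * ⁅a, g⁻¹ * v * g⁻¹⁻¹⁆ * g⁻¹ := by
          simp only [commutatorElement_def]; group
        rw [e]
        exact (zc_normal (Q := Q)).conj_mem _ (ha.2.2 _ (hQn.conj_mem v hv g⁻¹)) g⟩⟩
    have hcomm : ∀ x ∈ ⁅Q, Q⁆, ∀ y, IsZ2 Q y → x * y = y * x := by
      intro x hx y hy
      have hle : ⁅Q, Q⁆ ≤ centralizer ({y} : Set G) := by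
        rw [Subgroup.commutator_le]
        intro u hu v hv
        rw [Subgroup.mem_centralizer_singleton_iff]
        have key : ∀ u ∈ Q, y * u * y⁻¹ = ⁅y, u⁆ * u := fun u _ => by
          simp only [commutatorElement_def]; group
        have hu' := mem_zc.1 (hy.2 u hu)
        have hv' := mem_zc.1 (hy.2 v hv)
        have e : y * ⁅u, v⁆ * y⁻¹ = ⁅u, v⁆ := by
          calc y * ⁅u, v⁆ * y⁻¹ = ⁅y * u * y⁻¹, y * v * y⁻¹⁆ := by
                simp only [commutatorElement_def]; group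
            _ = ⁅⁅y, u⁆ * u, ⁅y, v⁆ * v⁆ := by rw [key u hu, key v hv]
            _ = ⁅u, v⁆ := by
              set z := ⁅y, u⁆
              set w := ⁅y, v⁆
              have a1 : Commute z v := (hu'.2 v hv).symm
              have a2 : Commute w u := (hv'.2 u hu).symm
              have a3 : Commute z w := (hu'.2 w hv'.1).symm
              have a4 : Commute z u := (hu'.2 u hu).symm
              have a5 : Commute w v := (hv'.2 v hv).symm
              rw [commutatorElement_def, commutatorElement_def, mul_inv_rev, mul_inv_rev]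
              calc z * u * (w * v) * (u⁻¹ * z⁻¹) * (v⁻¹ * w⁻¹)
                  = z * (u * w) * v * u⁻¹ * z⁻¹ * v⁻¹ * w⁻¹ := by group
                _ = z * w * (u * v * u⁻¹ * (z⁻¹ * v⁻¹)) * w⁻¹ := by rw [← a2.eq]; group
                _ = z * w * (u * v * u⁻¹ * v⁻¹ * z⁻¹) * w⁻¹ := by
                  rw [(a1.inv_left.inv_right).eq]; group
                _ = _ := by
                  have c1 : Commute z (u * v * u⁻¹ * v⁻¹) :=
                    ((a4.mul_right a1).mul_right a4.inv_right).mul_right a1.inv_right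
                  have c2 : Commute w (u * v * u⁻¹ * v⁻¹) :=
                    ((a2.mul_right a5).mul_right a2.inv_right).mul_right a5.inv_right
                  calc z * w * (u * v * u⁻¹ * v⁻¹ * z⁻¹) * w⁻¹
                      = z * (w * (u * v * u⁻¹ * v⁻¹)) * z⁻¹ * w⁻¹ := by group
                    _ = z * (u * v * u⁻¹ * v⁻¹) * (w * z⁻¹) * w⁻¹ := by rw [c2.eq]; group
                    _ = z * (u * v * u⁻¹ * v⁻¹) * z⁻¹ := by rw [← a3.inv_left.eq]; group
                    _ = _ := by rw [c1.eq, mul_inv_cancel_right]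
        rw [mul_inv_eq_iff_eq_mul] at e
        exact e.symm
      exact Subgroup.mem_centralizer_singleton_iff.1 (hle hx)
    have hwS : w ∈ S := ⟨hw, hw2⟩
    exact hwz (mem_zc.2 ⟨hw2.1, fun x _ =>
      ((hab S hSn (fun a ha => ha.2.1) (fun a ha b hb => hcomm a ha.1 b hb.2)) w hwS x).symm.eq⟩)
  have hder' : ∀ x ∈ Q, ∀ y ∈ Q, ∀ g : G, Commute ⁅x, y⁆ g :=
    fun x hx y hy => hzg _ (hder (Subgroup.commutator_mem_commutator hx hy))
  refine ⟨?_, fun x hx y hy => by simpa [commutatorElement_def] using hder' x hx y hy⟩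
  intro c hc hca
  refine hzg c (mem_zc.2 ⟨hc, ?_⟩)
  have hle : ⁅Q, A⁆ ≤ centralizer ({c} : Set G) := by
    rw [Subgroup.commutator_le]
    intro x hx a ha
    rw [Subgroup.mem_centralizer_singleton_iff]
    have hz := hder' c hc x hx a
    have h1 : c * x * c⁻¹ = ⁅c, x⁆ * x := by simp only [commutatorElement_def]; group
    have h2 : c * a * c⁻¹ = a := by rw [(hca a ha).eq, mul_inv_cancel_right]
    have e : c * ⁅x, a⁆ * c⁻¹ = ⁅x, a⁆ := by
      calc c * ⁅x, a⁆ * c⁻¹ = (c * x * c⁻¹) * (c * a * c⁻¹) * (c * x * c⁻¹)⁻¹ * (c * a * c⁻¹)⁻¹ := by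
            simp only [commutatorElement_def]; group
        _ = ⁅c, x⁆ * (x * a * x⁻¹ * (⁅c, x⁆⁻¹ * a⁻¹)) := by rw [h1, h2]; group
        _ = ⁅c, x⁆ * (x * a * x⁻¹ * a⁻¹) * ⁅c, x⁆⁻¹ := by rw [hz.inv_left.inv_right.eq]; group
        _ = _ := by
          rw [← commutatorElement_def, (hder' c hc x hx ⁅x, a⁆).eq, mul_inv_cancel_right]
    rw [mul_inv_eq_iff_eq_mul] at e
    exact e.symm
  intro x hx
  exact Subgroup.mem_centralizer_singleton_iff.1 (hle ((h.comm_eq hA hQ hQA).ge hx))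

theorem special (hNT : NonTriv D q) : Special D q := by
  intro J Q A hA hgen hQ hn hJ
  have hAJ : A ≤ J := hJ ▸ le_sup_right
  have hQJ : Q ≤ J := hJ ▸ le_sup_left
  haveI : (Q.subgroupOf J).Normal := (Subgroup.normal_subgroupOf_iff_le_normalizer hQJ).mpr hn
  have hS := h.sub hgen ⟨A, hA, hAJ⟩
  have hA' : A.subgroupOf J ∈ subD D J := show _ ∈ D by rw [map_subgroupOf_eq hAJ]; exact hA
  have hNT' : NonTriv (subD D J) q := by
    intro A₁ hA₁ B₁ hB₁ hne K hK hAK hP
    obtain ⟨c, hc, hc1, hca⟩ := hNT _ hA₁ _ hB₁ (fun e => hne (Subgroup.map_injective J.subtype_injective e))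
      (K.map J.subtype) (hK.map _) (map_subtype_normalizer.2 hAK) (by rw [← Subgroup.map_sup, hP, Subgroup.map_sup])
    obtain ⟨c, hc', rfl⟩ := hc
    exact ⟨c, hc', fun e => hc1 (by simp [e]), fun a ha => Subtype.ext (hca a ⟨a, ha, rfl⟩).eq⟩
  obtain ⟨h1, h2⟩ := hS.special_top hNT' (Q := Q.subgroupOf J) hA' (hQ.comap_of_injective _ J.subtype_injective) (by
    rw [← Subgroup.subgroupOf_sup hQJ hAJ, hJ, Subgroup.subgroupOf_self])
  refine ⟨fun c hc hca x hx => ?_, fun x hx y hy a ha => ?_⟩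
  · exact congrArg Subtype.val (h1 ⟨c, hQJ hc⟩ hc (fun a ha => Subtype.ext (hca a ha).eq) ⟨x, hx⟩).eq
  · exact congrArg Subtype.val (h2 ⟨x, hQJ hx⟩ hx ⟨y, hQJ hy⟩ hy ⟨a, hAJ ha⟩).eq

end Hyp

/-- In the first alternative the fixed points of `A` in `Q` are trivial. -/
theorem triv_fixed : ∀ (n : ℕ) (G : Type u) [Group G] [Finite G] (D : Set (Subgroup G)) (p q : ℕ), Hyp D p q →
    Triv D q → Nat.card G = n → ∀ (A Q : Subgroup G), A ∈ D → Q.Normal → IsPGroup q Q → Q ⊔ A = ⊤ →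
      ∀ c ∈ Q, (∀ a ∈ A, Commute c a) → c = 1 := by
  intro n
  induction n using Nat.strong_induction_on with
  | _ n ih =>
  intro G _ _ D p q h hT hn A Q hA hQn hQ hQA c hc hca
  subst hn
  haveI := hQn
  haveI : Fact q.Prime := ⟨h.qp⟩
  have hAQ : A ≤ normalizer (Q : Set G) := (le_top).trans_eq (Subgroup.normalizer_eq_top Q).symm
  rcases eq_or_ne Q ⊥ with hQ1 | hQ1
  · exact Subgroup.mem_bot.1 (hQ1 ▸ hc)
  -- reduction modulo a normal subgroup of `Q`
  have red : ∀ N : Subgroup G, N.Normal → N ≤ Q → N ≠ ⊥ → c ∈ N := by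
    intro N hNn hNQ hN1
    haveI := hNn
    have hker : ∀ B ∈ D, ¬ B ≤ (QuotientGroup.mk' N).ker := by
      intro B hB hle
      rw [QuotientGroup.ker_mk'] at hle
      obtain ⟨b, hb, hb1⟩ := h.exists_ne_one hB
      exact hb1 (disjoint_pq h.pp h.qp h.pq hQ (h.card B hB) (hNQ (hle hb)) hb)
    have hlt : Nat.card (G ⧸ N) < Nat.card G := by
      rw [Subgroup.card_eq_card_quotient_mul_card_subgroup N]
      exact lt_mul_of_one_lt_right Nat.card_pos (Subgroup.one_lt_card_iff_ne_bot N |>.2 hN1)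
    have hsurj := QuotientGroup.mk'_surjective N
    have h0 := ih _ hlt (G ⧸ N) _ p q (h.map _ hsurj hker) (h.map_triv _ hT hker hsurj) rfl _ _ ⟨A, hA, rfl⟩
      (hQn.map _ hsurj) (hQ.map _) (by rw [← Subgroup.map_sup, hQA, Subgroup.map_top_of_surjective _ hsurj])
      (QuotientGroup.mk' N c) ⟨c, hc, rfl⟩ (by rintro _ ⟨a, ha, rfl⟩; exact (hca a ha).map _)
    exact (QuotientGroup.eq_one_iff c).1 h0
  haveI hzn : (zc Q).Normal := zc_normal
  haveI : IsMulCommutative (zc Q) :=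
    ⟨⟨fun x y => Subtype.ext ((mem_zc.1 y.2).2 x (mem_zc.1 x.2).1)⟩⟩
  have hAz : A ≤ normalizer ((zc Q : Subgroup G) : Set G) := (le_top).trans_eq (Subgroup.normalizer_eq_top _).symm
  have hzq : IsPGroup q (zc Q) := hQ.to_le inf_le_left
  by_cases hS : ⁅zc Q, A⁆ = ⊥
  swap
  · -- `[Z(Q), A]` is normal and has no fixed points
    have hSle : ⁅zc Q, A⁆ ≤ zc Q := commutator_le_of_le_normalizer hAz
    have hSn : (⁅zc Q, A⁆).Normal := by
      rw [← Subgroup.normalizer_eq_top_iff, eq_top_iff, ← hQA, sup_le_iff]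
      refine ⟨fun x hx => ?_, right_le_normalizer_commutator A _⟩
      rw [Subgroup.mem_normalizer_iff]
      intro y
      have key : ∀ x ∈ Q, ∀ y ∈ ⁅zc Q, A⁆, x * y * x⁻¹ = y := fun x hx y hy => by
        rw [(mem_zc.1 (hSle hy)).2 x hx, mul_inv_cancel_right]
      constructor
      · intro hy; rw [key x hx y hy]; exact hy
      · intro hy
        have := key x⁻¹ (inv_mem hx) _ hy
        simp only [inv_inv] at this
        rw [show y = x⁻¹ * (x * y * x⁻¹) * x by group, this]; exact hy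
    have h1 := red _ hSn (hSle.trans inf_le_left) hS
    exact Subgroup.mem_bot.1 ((coprime_abelian_disjoint A (zc Q) hAz (h.coprime_A hA hzq)) ▸
      ⟨⟨hSle h1, fun a ha => (hca a ha).symm.eq⟩, h1⟩)
  -- `Z(Q)` is central and contains all fixed points
  have hzA : ∀ z ∈ zc Q, ∀ a ∈ A, Commute z a := by
    intro z hz a ha
    have := Subgroup.commutator_mem_commutator hz ha
    rw [hS, Subgroup.mem_bot, commutatorElement_eq_one_iff_mul_comm] at this
    exact this
  have hzG : ∀ z ∈ zc Q, ∀ g : G, Commute z g := h.cent_top hA hzA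
  haveI : Nontrivial Q := Q.nontrivial_iff_ne_bot.2 hQ1
  have hz1 : zc Q ≠ ⊥ := by
    haveI := hQ.center_nontrivial
    obtain ⟨z, hz⟩ := exists_ne (1 : Subgroup.center Q)
    intro e
    refine hz (Subtype.ext (Subtype.ext (Subgroup.mem_bot.1 (e ▸ mem_zc.2 ⟨z.1.2, fun x hx => ?_⟩))))
    exact congrArg Subtype.val (Subgroup.mem_center_iff.1 z.2 ⟨x, hx⟩)
  have hfix : ∀ d ∈ Q, (∀ a ∈ A, Commute d a) → d ∈ zc Q := by
    intro d hd hda
    have hlt : True := trivial
    by_contra hne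
    have hker : ∀ B ∈ D, ¬ B ≤ (QuotientGroup.mk' (zc Q)).ker := by
      intro B hB hle
      rw [QuotientGroup.ker_mk'] at hle
      obtain ⟨b, hb, hb1⟩ := h.exists_ne_one hB
      exact hb1 (disjoint_pq h.pp h.qp h.pq hQ (h.card B hB) (hle hb).1 hb)
    have hlt : Nat.card (G ⧸ zc Q) < Nat.card G := by
      rw [Subgroup.card_eq_card_quotient_mul_card_subgroup (zc Q)]
      exact lt_mul_of_one_lt_right Nat.card_pos (Subgroup.one_lt_card_iff_ne_bot _ |>.2 hz1)
    have hsurj := QuotientGroup.mk'_surjective (zc Q)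
    have h0 := ih _ hlt _ _ p q (h.map _ hsurj hker) (h.map_triv _ hT hker hsurj) rfl _ _ ⟨A, hA, rfl⟩
      (hQn.map _ hsurj) (hQ.map _) (by rw [← Subgroup.map_sup, hQA, Subgroup.map_top_of_surjective _ hsurj])
      (QuotientGroup.mk' (zc Q) d) ⟨d, hd, rfl⟩ (by rintro _ ⟨a, ha, rfl⟩; exact (hda a ha).map _)
    exact hne ((QuotientGroup.eq_one_iff d).1 h0)
  -- `g` commutes with its conjugate by `a`
  have hconj : ∀ g ∈ Q, ∀ a ∈ A, Commute g (a * g * a⁻¹) := by
    intro g hg a ha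
    obtain ⟨K, hK, hAK, hP⟩ := h.pair A hA _ (h.inv A hA g)
    obtain ⟨hab, -⟩ := hT A hA _ (h.inv A hA g) K hK hAK hP
    obtain ⟨k, hk, hkB⟩ := h.exists_conj_of_le hA (h.inv A hA g) hK hAK (hP ▸ le_sup_right)
    have hkQ : k ∈ Q := by
      obtain ⟨i, hi⟩ := hK ⟨k, hk⟩
      exact h.q_mem hA hQA (congrArg Subtype.val hi)
    have hn : k⁻¹ * g ∈ normalizer (A : Set G) := by
      rw [← conj_smul_eq_iff, ← conj_smul_mul, ← hkB, conj_smul_mul, inv_mul_cancel]; simp
    have hz := hfix _ (Q.mul_mem (Q.inv_mem hkQ) hg)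
      (commute_of_normalize h.pp h.qp h.pq hQ (h.card A hA) hAQ (Q.mul_mem (Q.inv_mem hkQ) hg) hn)
    have hzc := hzG _ hz
    set z := k⁻¹ * g
    have e : g = k * z := by simp [z]
    have e2 : a * g * a⁻¹ = (a * k * a⁻¹) * z := by
      rw [e]
      calc a * (k * z) * a⁻¹ = a * k * (z * a⁻¹) := by group
        _ = a * k * (a⁻¹ * z) := by rw [(hzc a⁻¹).eq]
        _ = _ := by group
    rw [e2, e]
    exact ((hab k hk _ ((Subgroup.mem_normalizer_iff.mp (hAK ha) k).mp hk)).mul_right (hzc k).symm).mul_left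
      ((hzc _).mul_right (hzc z))
  -- commutators with the second centre
  have hQz : Q ≤ zc Q := by
    by_contra hne
    obtain ⟨w, -, hwz, hwQ, hw⟩ := exists_isZ2 hQ le_rfl (fun x hx y hy => hQn.conj_mem y hy x) hne
    have hb : ∀ v ∈ Q, ∀ a ∈ A, ⁅a * w * a⁻¹, v⁆ = ⁅w, a * v * a⁻¹⁆ := by
      intro v hv a ha
      set w' := a * w * a⁻¹
      set v' := a * v * a⁻¹
      have hw'Q : w' ∈ Q := hQn.conj_mem w hwQ a
      have hv'Q : v' ∈ Q := hQn.conj_mem v hv a
      have hw' : ∀ x ∈ Q, ⁅w', x⁆ ∈ zc Q := fun x hx => by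
        have e : ⁅w', x⁆ = a * ⁅w, a⁻¹ * x * a⁻¹⁻¹⁆ * a⁻¹ := by simp only [w', commutatorElement_def]; group
        rw [e]
        exact hzn.conj_mem _ (hw _ (hQn.conj_mem x hx a⁻¹)) a
      have c1 := hconj (w * v) (Q.mul_mem hwQ hv) a ha
      rw [show a * (w * v) * a⁻¹ = w' * v' by simp only [w', v']; group] at c1
      have c2 : Commute w w' := hconj w hwQ a ha
      have c3 : Commute v v' := hconj v hv a ha
      have z1 := hzG _ (hw v' hv'Q)
      have z2 := hzG _ (hw' v hv)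
      have r1 : w * v' = ⁅w, v'⁆ * (v' * w) := by simp only [commutatorElement_def]; group
      have r2 : w' * v = ⁅w', v⁆ * (v * w') := by simp only [commutatorElement_def]; group
      have e1 : w' * v' * (w * v) = w' * (v' * w) * v := by group
      have e2 : w * v * (w' * v') = ⁅w', v⁆⁻¹ * (w * w' * (v * v')) := by
        calc w * v * (w' * v') = w * (v * w') * v' := by group
          _ = w * (⁅w', v⁆⁻¹ * (w' * v)) * v' := by rw [r2]; group
          _ = _ := by rw [← mul_assoc w, ((z2 w).inv_left).eq.symm]; group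
      have e3 : w' * v' * (w * v) = ⁅w, v'⁆⁻¹ * (w * w' * (v * v')) := by
        calc w' * v' * (w * v) = w' * (v' * w) * v := by group
          _ = w' * (⁅w, v'⁆⁻¹ * (w * v')) * v := by rw [r1]; group
          _ = ⁅w, v'⁆⁻¹ * (w' * w * (v' * v)) := by
            rw [← mul_assoc w', ((z1 w').inv_left).eq.symm]; group
          _ = _ := by rw [c2.eq, c3.eq]
      have e4 := c1.eq
      rw [e2, e3] at e4
      exact inv_injective (mul_right_cancel e4)
    have hb2 : ∀ v ∈ Q, ∀ a ∈ A, ⁅w, a * a * v * (a * a)⁻¹⁆ = ⁅w, v⁆ := by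
      intro v hv a ha
      have e : a * a * v * (a * a)⁻¹ = a * (a * v * a⁻¹) * a⁻¹ := by group
      rw [e, ← hb _ (hQn.conj_mem v hv a) a ha]
      have hz := hzG _ (hw v hv) a
      calc ⁅a * w * a⁻¹, a * v * a⁻¹⁆ = a * ⁅w, v⁆ * a⁻¹ := by simp only [commutatorElement_def]; group
        _ = _ := by rw [← hz.eq, mul_inv_cancel_right]
    have hall : ∀ v ∈ Q, ∀ x ∈ A, Commute w ⁅v, x⁆ := by
      intro v hv x hx
      obtain ⟨m, hm⟩ := h.pp.odd_of_ne_two h.p_odd
      have hxa : x = x ^ (m + 1) * x ^ (m + 1) := by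
        rw [← pow_add, show m + 1 + (m + 1) = p + 1 by omega, pow_succ, h.pow_p hA hx, one_mul]
      set v₁ := x * v⁻¹ * x⁻¹
      have hv₁ : v₁ ∈ Q := hQn.conj_mem _ (Q.inv_mem hv) x
      have h1 : ⁅w, v₁⁆ = ⁅w, v⁻¹⁆ := by
        have := hb2 v⁻¹ (Q.inv_mem hv) _ (pow_mem hx (m + 1))
        rwa [← hxa] at this
      have hzv := hzG _ (hw v⁻¹ (Q.inv_mem hv))
      have e : ⁅w, v * v₁⁆ = 1 := by
        calc ⁅w, v * v₁⁆ = ⁅w, v⁆ * (v * ⁅w, v₁⁆ * v⁻¹) := by simp only [commutatorElement_def]; group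
          _ = ⁅w, v⁆ * (v * ⁅w, v⁻¹⁆ * v⁻¹) := by rw [h1]
          _ = ⁅w, v * v⁻¹⁆ := by simp only [commutatorElement_def]; group
          _ = 1 := by simp
      rw [commutatorElement_eq_one_iff_mul_comm] at e
      rwa [show v * v₁ = ⁅v, x⁆ by simp only [v₁, commutatorElement_def]; group] at e
    have hle : ⁅Q, A⁆ ≤ centralizer ({w} : Set G) := by
      rw [Subgroup.commutator_le]
      exact fun v hv x hx => Subgroup.mem_centralizer_singleton_iff.2 (hall v hv x hx).symm.eq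
    exact hwz (mem_zc.2 ⟨hwQ, fun x hx =>
      Subgroup.mem_centralizer_singleton_iff.1 (hle ((h.comm_eq hA hQ hQA).ge hx))⟩)
  exfalso
  refine hQ1 ?_
  rw [← h.comm_eq hA hQ hQA, eq_bot_iff, Subgroup.commutator_le]
  intro x hx a ha
  rw [Subgroup.mem_bot, commutatorElement_eq_one_iff_mul_comm]
  exact hzA x (hQz hx) a ha

end CfsgLib.AfterFT.PairGen
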