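import Cfsg.Agent.Lib.AfterFT.PairGen.Reduce

/-!
In a minimal group: a maximal generated subgroup `M` is the only one above two of its members that is invariant
under a fixed element of its centre.
-/

set_option autoImplicit false
set_option linter.unusedSectionVars false
set_option linter.style.haveILetI false
set_option maxHeartbeats 800000

namespace CfsgLib.AfterFT.PairGen

open Subgroup CfsgLib
open scoped Pointwise commutatorElement

universe u
variable {G : Type u} [Group G]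

/-- `J = Q A` for each of its members `A`. -/
structure Str (D : Set (Subgroup G)) (q : ℕ) (J Q : Subgroup G) : Prop where
  isP : IsPGroup q Q
  le : Q ≤ J
  norm : J ≤ normalizer (Q : Set G)
  sup : ∀ A ∈ D, A ≤ J → Q ⊔ A = J

/-- The generated subgroup of the members centralised by `x`. -/
def fixCore (D : Set (Subgroup G)) (x : G) : Subgroup G := core D (centralizer ({x} : Set G))

/-- Maximal among the proper subgroups generated by members. -/
structure IsMax (D : Set (Subgroup G)) (M : Subgroup G) : Prop where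
  isGen : IsGen D M
  ne_top : M ≠ ⊤
  eq_of_le : ∀ J, IsGen D J → J ≠ ⊤ → M ≤ J → J = M

theorem isGen_sup {D : Set (Subgroup G)} {J K : Subgroup G} (hJ : IsGen D J) (hK : IsGen D K) :
    IsGen D (J ⊔ K) :=
  sup_le (hJ.trans (sSup_le fun _ hA => le_sSup ⟨hA.1, hA.2.trans le_sup_left⟩))
    (hK.trans (sSup_le fun _ hA => le_sSup ⟨hA.1, hA.2.trans le_sup_right⟩))

theorem core_mono {D : Set (Subgroup G)} {J K : Subgroup G} (h : J ≤ K) : core D J ≤ core D K :=
  sSup_le fun _ hA => le_core hA.1 (hA.2.trans h)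

theorem exists_fixed_coset [Finite G] {q : ℕ} [Fact q.Prime] {T Q W : Subgroup G} (hT : IsPGroup q T)
    (hQ : IsPGroup q Q) (hWQ : W ≤ Q) (hne : W ≠ Q) (hTQ : T ≤ normalizer (Q : Set G))
    (hTW : T ≤ normalizer (W : Set G)) : ∃ x ∈ Q, x ∉ W ∧ ∀ t ∈ T, x⁻¹ * (t * x * t⁻¹) ∈ W := by
  classical
  letI act : MulAction T (Q ⧸ W.subgroupOf Q) :=
    { smul := fun t => Quotient.map'
        (fun x => ⟨t * x * (t : G)⁻¹, (Subgroup.mem_normalizer_iff.mp (hTQ t.2) x).mp x.2⟩) fun x y hxy => by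
          rw [QuotientGroup.leftRel_apply, Subgroup.mem_subgroupOf] at hxy ⊢
          have := (Subgroup.mem_normalizer_iff.mp (hTW t.2) _).mp hxy
          simpa [mul_assoc] using this
      one_smul := fun x => Quotient.inductionOn' x fun x => congrArg Quotient.mk'' (Subtype.ext
        (show ((1 : T) : G) * x * ((1 : T) : G)⁻¹ = x by simp))
      mul_smul := fun s t x => Quotient.inductionOn' x fun x => congrArg Quotient.mk'' (Subtype.ext
        (show ((s * t : T) : G) * x * ((s * t : T) : G)⁻¹ = s * (t * x * (t : G)⁻¹) * (s : G)⁻¹ by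
          push_cast; group)) }
  obtain ⟨n, hn⟩ := hQ.exists_card_eq
  have hidx : q ∣ Nat.card (Q ⧸ W.subgroupOf Q) := by
    have hd : (W.subgroupOf Q).index ∣ q ^ n := hn ▸ Subgroup.index_dvd_card _
    obtain ⟨i, -, hi⟩ := (Nat.dvd_prime_pow Fact.out).1 hd
    rw [← Subgroup.index_eq_card, hi]
    refine dvd_pow_self q fun h0 => hne ?_
    rw [h0, pow_zero, Subgroup.index_eq_one, Subgroup.subgroupOf_eq_top] at hi
    exact le_antisymm hWQ hi
  have hfix : ((1 : Q) : Q ⧸ W.subgroupOf Q) ∈ MulAction.fixedPoints T (Q ⧸ W.subgroupOf Q) := fun t =>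
    congrArg Quotient.mk'' (Subtype.ext (show (t : G) * ((1 : Q) : G) * (t : G)⁻¹ = ((1 : Q) : G) by simp))
  obtain ⟨b, hb, hb1⟩ := hT.exists_fixed_point_of_prime_dvd_card_of_fixed_point _ hidx hfix
  obtain ⟨x, rfl⟩ := QuotientGroup.mk_surjective b
  refine ⟨x, x.2, fun hm => hb1 ?_, fun t ht => ?_⟩
  · rw [QuotientGroup.eq, Subgroup.mem_subgroupOf]; simpa using hm
  · have h1 := hb ⟨t, ht⟩
    have h2 := QuotientGroup.eq.1 h1.symm
    rw [Subgroup.mem_subgroupOf] at h2
    exact h2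

namespace Min

variable [Finite G] {D : Set (Subgroup G)} {p q : ℕ} (h : Min D p q)
include h

theorem exists_str {J : Subgroup G} (hJ : IsGen D J) (hne : J ≠ ⊤) : ∃ Q, Str D q J Q := by
  by_cases hm : ∃ A ∈ D, A ≤ J
  · obtain ⟨Q₁, hQ₁n, hQ₁, hQ₁A⟩ := exists_normal_q h.odd _ J _ p q (h.hyp.sub hJ hm) rfl (h.sub_odd J hJ hne)
    haveI := hQ₁n
    refine ⟨Q₁.map J.subtype, hQ₁.map _, Subgroup.map_subtype_le _, ?_, fun A hA hAJ => ?_⟩
    · have := Subgroup.le_normalizer_map J.subtype (H := Q₁)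
      rwa [Subgroup.normalizer_eq_top Q₁, ← MonoidHom.range_eq_map, Subgroup.range_subtype] at this
    · have := congrArg (Subgroup.map J.subtype) (hQ₁A (A.subgroupOf J)
        (show _ ∈ D by rw [map_subgroupOf_eq hAJ]; exact hA))
      rwa [Subgroup.map_sup, map_subgroupOf_eq hAJ, ← MonoidHom.range_eq_map, Subgroup.range_subtype] at this
  · exact ⟨⊥, IsPGroup.of_bot, bot_le, (le_top).trans_eq (Subgroup.normalizer_eq_top ⊥).symm, fun A hA hAJ => absurd ⟨A, hA, hAJ⟩ hm⟩

theorem mem_Q {J Q A : Subgroup G} (hs : Str D q J Q) (hA : A ∈ D) (hAJ : A ≤ J) {g : G} (hg : g ∈ J)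
    {n : ℕ} (hn : g ^ q ^ n = 1) : g ∈ Q :=
  mem_left_of_qElement h.hyp.pp h.hyp.qp h.hyp.pq (h.hyp.card A hA) (hAJ.trans hs.norm)
    ((hs.sup A hA hAJ).symm ▸ hg) hn

theorem le_Q {J Q A R : Subgroup G} (hs : Str D q J Q) (hA : A ∈ D) (hAJ : A ≤ J) (hR : IsPGroup q R)
    (hRJ : R ≤ J) : R ≤ Q := fun x hx => by
  obtain ⟨n, hn⟩ := hR ⟨x, hx⟩
  exact h.mem_Q hs hA hAJ (hRJ hx) (congrArg Subtype.val hn)

theorem exists_max {J : Subgroup G} (hJ : IsGen D J) (hne : J ≠ ⊤) : ∃ M, IsMax D M ∧ J ≤ M := by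
  classical
  obtain ⟨M, ⟨hM, hMne, hJM⟩, hmax⟩ := Set.Finite.exists_maximal
    (s := {M : Subgroup G | IsGen D M ∧ M ≠ ⊤ ∧ J ≤ M}) (Set.toFinite _) ⟨J, hJ, hne, le_rfl⟩
  exact ⟨M, ⟨hM, hMne, fun K hK hKne hMK =>
    le_antisymm (hmax ⟨hK, hKne, hJM.trans hMK⟩ hMK) hMK⟩, hJM⟩

theorem eq_one_of_central {x : G} (hx : ∀ g : G, Commute x g) : x = 1 := by
  rw [← Subgroup.mem_bot, ← h.center, Subgroup.mem_center_iff]
  exact fun g => (hx g).eq.symm

theorem fixCore_ne_top {x : G} (hx : x ≠ 1) : fixCore D x ≠ ⊤ := fun e => hx (h.eq_one_of_central fun g =>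
  (Subgroup.mem_centralizer_singleton_iff.1 (core_le D _ (e ▸ mem_top g : g ∈ fixCore D x))).symm)

theorem conj_core {g : G} {J : Subgroup G} :
    MulAut.conj g • core D J = core D (MulAut.conj g • J) := by
  have key : ∀ (g : G) (J : Subgroup G), MulAut.conj g • core D J ≤ core D (MulAut.conj g • J) := by
    intro g J
    have hle : core D J ≤ (core D (MulAut.conj g • J)).comap (MulAut.conj g).toMonoidHom := by
      refine sSup_le fun A hA x hx => ?_
      rw [Subgroup.mem_comap, MulEquiv.coe_toMonoidHom, MulAut.conj_apply]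
      refine le_core (h.hyp.inv A hA.1 g) (Subgroup.pointwise_smul_le_pointwise_smul_iff.2 hA.2) ?_
      rw [mem_conj_smul_iff]
      simpa [mul_assoc] using hx
    intro y hy
    rw [mem_conj_smul_iff] at hy
    have := hle hy
    rw [Subgroup.mem_comap, MulEquiv.coe_toMonoidHom, MulAut.conj_apply] at this
    simpa [mul_assoc] using this
  refine le_antisymm (key g J) ?_
  have := key g⁻¹ (MulAut.conj g • J)
  rw [conj_smul_mul, inv_mul_cancel, map_one, one_smul] at this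
  rw [← Subgroup.pointwise_smul_le_pointwise_smul_iff (a := MulAut.conj g⁻¹), conj_smul_mul, inv_mul_cancel, map_one,
    one_smul]
  exact this

theorem conj_core_eq {g : G} {J : Subgroup G} (hg : g ∈ normalizer (J : Set G)) :
    MulAut.conj g • core D J = core D J := by
  rw [h.conj_core, conj_smul_eq_iff.2 hg]

theorem conj_fixCore {g x : G} (hc : Commute g x) : MulAut.conj g • fixCore D x = fixCore D x := by
  refine h.conj_core_eq ?_
  exact Subgroup.le_normalizer (Subgroup.mem_centralizer_singleton_iff.2 hc.eq)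

theorem le_fixCore {A : Subgroup G} (hA : A ∈ D) {x : G} (hx : ∀ a ∈ A, Commute x a) : A ≤ fixCore D x :=
  le_core hA fun a ha => Subgroup.mem_centralizer_singleton_iff.2 (hx a ha).eq.symm

theorem not_normal_gen {A J : Subgroup G} (hA : A ∈ D) (hAJ : A ≤ J) (hne : J ≠ ⊤)
    (hJ : ∀ g : G, MulAut.conj g • J = J) : False := by
  haveI : J.Normal := Subgroup.normalizer_eq_top_iff.1 (eq_top_iff.2 fun g _ => conj_smul_eq_iff.1 (hJ g))
  exact hne (h.hyp.eq_top_of_normal hA hAJ)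

/-- A normal `q`-subgroup is trivial. -/
theorem q_normal_bot {S : Subgroup G} (hSn : S.Normal) (hS : IsPGroup q S) : S = ⊥ := by
  haveI : Fact q.Prime := ⟨h.hyp.qp⟩
  obtain ⟨n, hn⟩ := hS.exists_card_eq
  exact h.no_odd S hSn (hn ▸ (h.hyp.qp.odd_of_ne_two h.hyp.q_odd).pow)

theorem norm_Q {J Q A : Subgroup G} (hs : Str D q J Q) (hA : A ∈ D) (hAJ : A ≤ J) {g : G}
    (hg : MulAut.conj g • J = J) : g ∈ normalizer (Q : Set G) := by
  rw [← conj_smul_eq_iff]
  refine Subgroup.eq_of_le_of_card_ge ?_ (card_conj_smul g Q).ge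
  refine h.le_Q hs hA hAJ ?_ ?_
  · rw [Subgroup.pointwise_smul_def]; exact hs.isP.map _
  · exact (Subgroup.pointwise_smul_le_pointwise_smul_iff.2 hs.le).trans_eq hg

variable (hS : Special D q)
include hS

theorem fixed_central {J Q A : Subgroup G} (hgen : IsGen D J) (hs : Str D q J Q) (hA : A ∈ D) (hAJ : A ≤ J)
    {c : G} (hc : c ∈ Q) (hca : ∀ a ∈ A, Commute c a) : c ∈ Q ⊓ centralizer (J : Set G) := by
  refine ⟨hc, fun x hx => ?_⟩
  exact (((hS J Q A hA hgen hs.isP hs.norm (hs.sup A hA hAJ)).1 c hc hca) x hx).eq.symm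

theorem comm_central {J Q A : Subgroup G} (hgen : IsGen D J) (hs : Str D q J Q) (hA : A ∈ D) (hAJ : A ≤ J)
    {x y : G} (hx : x ∈ Q) (hy : y ∈ Q) : ⁅x, y⁆ ∈ Q ⊓ centralizer (J : Set G) := by
  refine h.fixed_central hS hgen hs hA hAJ ?_ ?_
  · exact mul_mem (mul_mem (mul_mem hx hy) (inv_mem hx)) (inv_mem hy)
  · exact fun a ha => (hS J Q A hA hgen hs.isP hs.norm (hs.sup A hA hAJ)).2 x hx y hy a ha

/-- One side of the construction: a member of `M₁` outside `R A` normalising `R Za Zb`. -/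
theorem side {M₁ Q₁ A R Za Zb : Subgroup G} (hgen : IsGen D M₁) (hs : Str D q M₁ Q₁) (hA : A ∈ D)
    (hAM : A ≤ M₁) (hRQ : R ≤ Q₁) (hAR : A ≤ normalizer (R : Set G))
    (hRab : ∀ r ∈ R, ∀ r' ∈ R, Commute r r') (hne : R ⊔ A ≠ M₁)
    (hZa : Za ≤ Q₁ ⊓ centralizer (M₁ : Set G)) (hZb : IsPGroup q Zb) (hZbM : Zb ≤ normalizer (M₁ : Set G))
    (hZbY : ∀ e ∈ Zb, ∀ y ∈ R ⊔ A, Commute e y)
    (hcl : ∀ f ∈ Q₁ ⊓ centralizer (M₁ : Set G), (∀ e ∈ Zb, Commute e f) → f ∈ Za) :
    ∃ B ∈ D, B ≤ M₁ ∧ ¬ B ≤ R ⊔ A ∧ B ≤ normalizer ((R ⊔ (Za ⊔ Zb) : Subgroup G) : Set G) := by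
  haveI : Fact q.Prime := ⟨h.hyp.qp⟩
  set Z₁ := Q₁ ⊓ centralizer (M₁ : Set G) with hZ₁
  have hzc : ∀ c ∈ Z₁, ∀ x ∈ M₁, Commute c x := fun c hc x hx =>
    (Subgroup.mem_centralizer_iff.1 hc.2 x hx).symm
  have hRM : R ≤ M₁ := hRQ.trans hs.le
  have hRZ : R ≤ normalizer (Z₁ : Set G) := by
    intro r hr
    rw [Subgroup.mem_normalizer_iff]
    intro c
    constructor
    · intro hc; rw [← (hzc c hc r (hRM hr)).eq, mul_inv_cancel_right]; exact hc
    · intro hc
      have := hzc _ hc r (hRM hr)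
      rw [show c = r⁻¹ * (r * c * r⁻¹) * r by group, mul_assoc, this.eq, inv_mul_cancel_left]
      exact hc
  set W := Z₁ ⊔ R with hW
  have hWmem : ∀ x, x ∈ W ↔ ∃ c ∈ Z₁, ∃ r ∈ R, c * r = x := fun x => mem_sup_iff hRZ
  have hWQ : W ≤ Q₁ := sup_le inf_le_left hRQ
  have hWne : W ≠ Q₁ := by
    intro e
    refine hne (le_antisymm (sup_le hRM hAM) (hgen.trans (sSup_le fun B hB => ?_)))
    obtain ⟨x, hx, rfl⟩ := h.hyp.exists_conj_of_le hA hB.1 hs.isP (hAM.trans hs.norm)
      ((hs.sup A hA hAM).symm ▸ hB.2)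
    obtain ⟨c, hc, r, hr, rfl⟩ := (hWmem x).1 (e.symm ▸ hx)
    rw [(hzc c hc r (hRM hr)).eq, ← conj_smul_mul]
    have : MulAut.conj c • A = A := by
      ext a
      rw [mem_conj_smul_iff]
      constructor
      · intro ha
        have := hzc c hc _ (hAM ha)
        rw [show a = c * (c⁻¹ * a * c) * c⁻¹ by group, this.eq, mul_inv_cancel_right]
        exact ha
      · intro ha
        rwa [mul_assoc, ← (hzc c hc a (hAM ha)).eq, inv_mul_cancel_left]
    rw [this]
    exact smul_mem_pair hr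
  have hZbW : Zb ≤ normalizer (W : Set G) := by
    intro e he
    rw [← conj_smul_eq_iff]
    refine Subgroup.eq_of_le_of_card_ge ?_ (card_conj_smul e W).ge
    rw [hW, Subgroup.smul_sup]
    refine sup_le (le_trans ?_ le_sup_left) (le_trans ?_ le_sup_right)
    · intro x hx
      rw [mem_conj_smul_iff] at hx
      refine ⟨?_, fun y hy => ?_⟩
      · have := (Subgroup.mem_normalizer_iff.mp
          (h.norm_Q hs hA hAM (conj_smul_eq_iff.2 (hZbM he))) _).mp hx.1
        simpa [mul_assoc] using this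
      · have hy' : e⁻¹ * y * e ∈ M₁ := by
          rw [← mem_conj_smul_iff, conj_smul_eq_iff.2 (hZbM he)]; exact hy
        have := Subgroup.mem_centralizer_iff.1 hx.2 _ hy'
        calc y * x = e * (e⁻¹ * y * e * (e⁻¹ * x * e)) * e⁻¹ := by group
          _ = e * (e⁻¹ * x * e * (e⁻¹ * y * e)) * e⁻¹ := by rw [this]
          _ = x * y := by group
    · intro x hx
      rw [mem_conj_smul_iff] at hx
      have := hZbY e he _ (Subgroup.mem_sup_left hx)
      rw [show x = e * (e⁻¹ * x * e) * e⁻¹ by group, this.eq, mul_inv_cancel_right]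
      exact hx
  obtain ⟨x, hx, hxW, hxfix⟩ := exists_fixed_coset hZb hs.isP hWQ hWne
    (fun e he => h.norm_Q hs hA hAM (conj_smul_eq_iff.2 (hZbM he))) hZbW
  set B := MulAut.conj x • A with hBdef
  refine ⟨B, h.hyp.inv A hA x, ?_, ?_, ?_⟩
  · exact (smul_mem_pair hx).trans (hs.sup A hA hAM).le
  · intro hle
    have hRp : IsPGroup q R := hs.isP.to_le hRQ
    obtain ⟨r, hr, hrB⟩ := h.hyp.exists_conj_of_le hA (h.hyp.inv A hA x) hRp hAR hle
    have hn : r⁻¹ * x ∈ normalizer (A : Set G) := by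
      rw [← conj_smul_eq_iff, ← conj_smul_mul, ← hrB, conj_smul_mul, inv_mul_cancel]; simp
    have hmem : r⁻¹ * x ∈ Q₁ := Q₁.mul_mem (inv_mem (hRQ hr)) hx
    have hc := h.fixed_central hS hgen hs hA hAM hmem
      (commute_of_normalize h.hyp.pp h.hyp.qp h.hyp.pq hs.isP (h.hyp.card A hA) (hAM.trans hs.norm) hmem hn)
    apply hxW
    rw [show x = r * (r⁻¹ * x) by group]
    exact mul_mem (Subgroup.mem_sup_right hr) (Subgroup.mem_sup_left hc)
  set E := R ⊔ (Za ⊔ Zb) with hE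
  have hAE : A ≤ normalizer (E : Set G) := by
    intro a ha
    rw [← conj_smul_eq_iff]
    refine Subgroup.eq_of_le_of_card_ge ?_ (card_conj_smul a E).ge
    rw [hE, Subgroup.smul_sup, Subgroup.smul_sup, conj_smul_eq_iff.2 (hAR ha)]
    refine sup_le_sup_left (sup_le_sup (fun y hy => ?_) (fun y hy => ?_)) R
    · rw [mem_conj_smul_iff] at hy
      have := (hzc _ (hZa hy) a (hAM ha))
      rw [show y = a * (a⁻¹ * y * a) * a⁻¹ by group, ← this.eq, mul_inv_cancel_right]
      exact hy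
    · rw [mem_conj_smul_iff] at hy
      have := hZbY _ hy a (Subgroup.mem_sup_right ha)
      rw [show y = a * (a⁻¹ * y * a) * a⁻¹ by group, ← this.eq, mul_inv_cancel_right]
      exact hy
  intro b hb
  rw [mem_conj_smul_iff] at hb
  obtain ⟨a, ha, rfl⟩ : ∃ a ∈ A, b = x * a * x⁻¹ := ⟨x⁻¹ * b * x, hb, by group⟩
  have haM := hAM ha
  have hxM := hs.le hx
  set w := x * a * x⁻¹ * a⁻¹ with hw
  have hwQ : w ∈ Q₁ := by
    have := Q₁.mul_mem hx ((Subgroup.mem_normalizer_iff.mp (hs.norm haM) _).mp (Q₁.inv_mem hx))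
    simpa [hw, mul_assoc] using this
  -- the action of `Zb` on `w`
  have hew : ∀ e ∈ Zb, ∃ r ∈ R, e * w * e⁻¹ = ⁅r, w⁆ * w * (r * (a * r⁻¹ * a⁻¹)) ∧
      ∃ c ∈ Z₁, ∃ r' ∈ R, e * w * e⁻¹ = w * (c * r') := by
    intro e he
    obtain ⟨c, hc, r, hr, hcr⟩ := (hWmem _).1 (hxfix e he)
    refine ⟨r, hr, ?_⟩
    have hea : e * a * e⁻¹ = a := by rw [(hZbY e he a (Subgroup.mem_sup_right ha)).eq, mul_inv_cancel_right]
    have hex : e * x * e⁻¹ = x * (c * r) := by rw [hcr]; group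
    have hk := h.comm_central hS hgen hs hA hAM hx (hRQ hr)
    have hk2 := h.comm_central hS hgen hs hA hAM (hRQ hr) hwQ
    have hkM : ∀ y ∈ M₁, Commute ⁅x, r⁆ y := hzc _ hk
    have hra : r * a * r⁻¹ ∈ M₁ := mul_mem (mul_mem (hRM hr) haM) (inv_mem (hRM hr))
    have e1 : e * w * e⁻¹ = x * (c * r) * a * (x * (c * r))⁻¹ * a⁻¹ := by
      calc e * w * e⁻¹ = (e * x * e⁻¹) * (e * a * e⁻¹) * (e * x * e⁻¹)⁻¹ * (e * a * e⁻¹)⁻¹ := by rw [hw]; group
        _ = _ := by rw [hex, hea]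
    have e2 : e * w * e⁻¹ = r * w * (a * r⁻¹ * a⁻¹) := by
      calc e * w * e⁻¹ = x * (c * (r * a * r⁻¹)) * c⁻¹ * x⁻¹ * a⁻¹ := by rw [e1]; group
        _ = x * r * a * (x * r)⁻¹ * a⁻¹ := by rw [(hzc c hc _ hra).eq]; group
        _ = ⁅x, r⁆ * ((r * x) * a * (r * x)⁻¹) * ⁅x, r⁆⁻¹ * a⁻¹ := by
            simp only [commutatorElement_def]; group
        _ = (r * x) * a * (r * x)⁻¹ * a⁻¹ := by
            rw [(hkM _ (mul_mem (mul_mem (mul_mem (hRM hr) hxM) haM) (inv_mem (mul_mem (hRM hr) hxM)))).eq,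
              mul_inv_cancel_right]
        _ = _ := by rw [hw]; group
    have e3 : e * w * e⁻¹ = ⁅r, w⁆ * w * (r * (a * r⁻¹ * a⁻¹)) := by
      rw [e2]; simp only [commutatorElement_def]; group
    refine ⟨e3, ⁅r, w⁆, hk2, r * (a * r⁻¹ * a⁻¹), mul_mem hr ((Subgroup.mem_normalizer_iff.mp (hAR ha) _).mp
      (inv_mem hr)), ?_⟩
    rw [e3, (hzc _ hk2 w (hs.le hwQ)).eq, mul_assoc]
  -- the commutators with `R` lie in `Za`
  have hf : ∀ r ∈ R, ⁅r, w⁆ ∈ Za := by
    intro r hr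
    have hf := h.comm_central hS hgen hs hA hAM (hRQ hr) hwQ
    refine hcl _ hf fun e he => ?_
    obtain ⟨-, -, -, c, hc, r', hr', e1⟩ := hew e he
    have her : e * r * e⁻¹ = r := by rw [(hZbY e he r (Subgroup.mem_sup_left hr)).eq, mul_inv_cancel_right]
    have e2 : e * ⁅r, w⁆ * e⁻¹ = ⁅r, w⁆ := by
      have c1 : Commute (c * r') r := ((hzc c hc r (hRM hr)).mul_left (hRab r' hr' r hr))
      calc e * ⁅r, w⁆ * e⁻¹ = (e * r * e⁻¹) * (e * w * e⁻¹) * (e * r * e⁻¹)⁻¹ * (e * w * e⁻¹)⁻¹ := by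
            simp only [commutatorElement_def]; group
        _ = r * w * ((c * r') * r⁻¹) * (c * r')⁻¹ * w⁻¹ := by rw [her, e1]; group
        _ = _ := by rw [c1.inv_right.eq]; simp only [commutatorElement_def]; group
    exact mul_inv_eq_iff_eq_mul.1 e2
  have hwE : w ∈ normalizer (E : Set G) := by
    rw [← inv_inv w]
    apply inv_mem
    rw [← conj_smul_eq_iff]
    refine Subgroup.eq_of_le_of_card_ge ?_ (card_conj_smul w⁻¹ E).ge
    rw [hE, Subgroup.smul_sup, Subgroup.smul_sup]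
    refine sup_le ?_ (sup_le ?_ ?_)
    · intro y hy
      rw [mem_conj_smul_iff, inv_inv] at hy
      have hfy := hf _ hy
      have e : y = ⁅w * y * w⁻¹, w⁆ * (w * y * w⁻¹) := by
        have hc := hzc _ (hZa hfy) w⁻¹ (inv_mem (hs.le hwQ))
        calc y = w⁻¹ * ⁅w * y * w⁻¹, w⁆ * w * (w * y * w⁻¹) := by simp only [commutatorElement_def]; group
          _ = _ := by rw [← hc.eq]; group
      rw [e]
      exact mul_mem (Subgroup.mem_sup_right (Subgroup.mem_sup_left hfy)) (Subgroup.mem_sup_left hy)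
    · intro y hy
      rw [mem_conj_smul_iff, inv_inv] at hy
      have hc := hzc _ (hZa hy) w (hs.le hwQ)
      rw [show y = w⁻¹ * ((w * y * w⁻¹) * w) by group, hc.eq, inv_mul_cancel_left]
      exact Subgroup.mem_sup_right (Subgroup.mem_sup_left hy)
    · intro y hy
      rw [mem_conj_smul_iff, inv_inv] at hy
      set e := w * y * w⁻¹
      obtain ⟨r, hr, e1, -⟩ := hew e hy
      have hfr := hf r hr
      have e2 : y = ⁅r, w⁆ * (r * (a * r⁻¹ * a⁻¹)) * e := by
        calc y = w⁻¹ * (e * w * e⁻¹) * e := by simp only [e]; group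
          _ = _ := by rw [e1, (hzc _ (hZa hfr) w (hs.le hwQ)).eq]; group
      rw [e2]
      refine mul_mem (mul_mem (Subgroup.mem_sup_right (Subgroup.mem_sup_left hfr)) (Subgroup.mem_sup_left ?_))
        (Subgroup.mem_sup_right (Subgroup.mem_sup_right hy))
      exact mul_mem hr ((Subgroup.mem_normalizer_iff.mp (hAR ha) _).mp (inv_mem hr))
  have := mul_mem hwE (hAE ha)
  simpa [hw] using this

theorem fixCore_eq {M QM : Subgroup G} (hM : IsMax D M) {z : G}
    (hz : z ∈ QM ⊓ centralizer (M : Set G)) (hz1 : z ≠ 1) : fixCore D z = M := by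
  refine hM.eq_of_le _ (isGen_core _ _) (h.fixCore_ne_top hz1) (hM.isGen.trans (sSup_le fun A hA => ?_))
  exact h.le_fixCore hA.1 fun a ha => (Subgroup.mem_centralizer_iff.1 hz.2 a (hA.2 ha)).symm

theorem core_self {J : Subgroup G} (hJ : IsGen D J) {g : G} (hg : g ∈ J) : MulAut.conj g • J = J :=
  Subgroup.conj_smul_eq_self_of_mem hg

/-- The uniqueness lemma. -/
theorem uniq {M QM : Subgroup G} (hM : IsMax D M) (hsM : Str D q M QM) {z : G}
    (hz : z ∈ QM ⊓ centralizer (M : Set G)) (hz1 : z ≠ 1) {J : Subgroup G} (hJ : IsGen D J) (hJne : J ≠ ⊤)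
    (hzJ : MulAut.conj z • J = J) {A B : Subgroup G} (hA : A ∈ D) (hB : B ∈ D) (hAB : A ≠ B)
    (hAM : A ≤ M) (hAJ : A ≤ J) (hBM : B ≤ M) (hBJ : B ≤ J) : J ≤ M := by
  haveI : Fact q.Prime := ⟨h.hyp.qp⟩
  induction hn : (Nat.card G + 1) * (Nat.card G + 1) - (Nat.card (core D (M ⊓ J)) * (Nat.card G + 1) + Nat.card J)
    using Nat.strong_induction_on generalizing J with
  | _ n ih =>
  by_contra hJM
  -- a larger configuration gives a contradiction
  have bigger : ∀ J' : Subgroup G, IsGen D J' → J' ≠ ⊤ → MulAut.conj z • J' = J' →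
      core D (M ⊓ J) ≤ core D (M ⊓ J') →
      (core D (M ⊓ J) < core D (M ⊓ J') ∨ J < J') → J' ≤ M := by
    intro J' hJ' hJ'ne hzJ' hle hlt
    have hAJ' : A ≤ J' := ((le_core hA (le_inf hAM hAJ)).trans hle).trans ((core_le D _).trans inf_le_right)
    have hBJ' : B ≤ J' := ((le_core hB (le_inf hBM hBJ)).trans hle).trans ((core_le D _).trans inf_le_right)
    refine ih _ ?_ hJ' hJ'ne hzJ' hAJ' hBJ' rfl
    have h1 := Subgroup.card_le_card_group J'
    have h2 := Subgroup.card_le_card_group (core D (M ⊓ J'))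
    have h3 := Subgroup.card_le_card_group J
    have h5 : Nat.card (core D (M ⊓ J)) ≤ Nat.card (core D (M ⊓ J')) :=
      Subgroup.card_le_of_le hle
    rw [← hn]
    rcases hlt with hl | hl
    · have h4 : Nat.card (core D (M ⊓ J)) + 1 ≤ Nat.card (core D (M ⊓ J')) :=
        Nat.succ_le_of_lt (lt_of_le_of_ne h5 fun e => hl.ne (Subgroup.eq_of_le_of_card_ge hle e.ge))
      have := Nat.mul_le_mul_right (Nat.card G + 1) h4
      rw [Nat.add_mul, one_mul] at this
      have := Nat.mul_le_mul_right (Nat.card G + 1) h2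
      have e : (Nat.card G + 1) * (Nat.card G + 1) = Nat.card G * (Nat.card G + 1) + Nat.card G + 1 := by ring
      omega
    · rcases eq_or_lt_of_le h5 with e5 | h4
      · have h4 : Nat.card J < Nat.card J' :=
          lt_of_le_of_ne (Subgroup.card_le_of_le hl.le) fun e => hl.ne (Subgroup.eq_of_le_of_card_ge hl.le e.ge)
        rw [← e5]
        have := Nat.mul_le_mul_right (Nat.card G + 1) (Subgroup.card_le_card_group (core D (M ⊓ J)))
        have e : (Nat.card G + 1) * (Nat.card G + 1) = Nat.card G * (Nat.card G + 1) + Nat.card G + 1 := by ring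
        omega
      · have := Nat.mul_le_mul_right (Nat.card G + 1) (Nat.succ_le_of_lt h4)
        rw [Nat.succ_mul] at this
        have := Nat.mul_le_mul_right (Nat.card G + 1) h2
        have e : (Nat.card G + 1) * (Nat.card G + 1) = Nat.card G * (Nat.card G + 1) + Nat.card G + 1 := by ring
        omega
  set Y := core D (M ⊓ J) with hY
  have hYM : Y ≤ M := (core_le D _).trans inf_le_left
  have hYJ : Y ≤ J := (core_le D _).trans inf_le_right
  have hAY : A ≤ Y := le_core hA (le_inf hAM hAJ)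
  have hBY : B ≤ Y := le_core hB (le_inf hBM hBJ)
  obtain ⟨R, hsY⟩ := h.exists_str (isGen_core D (M ⊓ J)) (fun e => hM.ne_top (top_le_iff.1 (e ▸ hYM)))
  rw [← hY] at hsY
  obtain ⟨QJ, hsJ⟩ := h.exists_str hJ hJne
  have hRM : R ≤ QM := h.le_Q hsM hA hAM hsY.isP (hsY.le.trans hYM)
  have hRJ : R ≤ QJ := h.le_Q hsJ hA hAJ hsY.isP (hsY.le.trans hYJ)
  have hRA : R ⊔ A = Y := hsY.sup A hA hAY
  have hAR : A ≤ normalizer (R : Set G) := hAY.trans hsY.norm
  have htop : M ⊔ J = ⊤ := by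
    by_contra hne
    exact hJM (le_sup_right.trans (hM.eq_of_le _ (isGen_sup hM.isGen hJ) hne le_sup_left).le)
  have hboth : ∀ c ∈ QM ⊓ centralizer (M : Set G), c ∈ QJ ⊓ centralizer (J : Set G) → c = 1 := by
    intro c hc hc'
    refine h.eq_one_of_central fun g => ?_
    have : (M ⊔ J : Subgroup G) ≤ centralizer ({c} : Set G) := sup_le
      (fun x hx => Subgroup.mem_centralizer_singleton_iff.2 (Subgroup.mem_centralizer_iff.1 hc.2 x hx))
      (fun x hx => Subgroup.mem_centralizer_singleton_iff.2 (Subgroup.mem_centralizer_iff.1 hc'.2 x hx))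
    exact (Subgroup.mem_centralizer_singleton_iff.1 (this (htop.symm ▸ mem_top g))).symm
  have hRab : ∀ r ∈ R, ∀ r' ∈ R, Commute r r' := fun r hr r' hr' => commutatorElement_eq_one_iff_commute.1
    (hboth _ (h.comm_central hS hM.isGen hsM hA hAM (hRM hr) (hRM hr'))
      (h.comm_central hS hJ hsJ hA hAJ (hRJ hr) (hRJ hr')))
  have hRfix : ∀ r ∈ R, (∀ a ∈ A, Commute r a) → r = 1 := fun r hr hc =>
    hboth r (h.fixed_central hS hM.isGen hsM hA hAM (hRM hr) hc) (h.fixed_central hS hJ hsJ hA hAJ (hRJ hr) hc)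
  have hR1 : R ≠ ⊥ := by
    intro e
    rw [e, bot_sup_eq] at hRA
    exact hAB ((h.hyp.eq_of_le hB hA (hBY.trans hRA.ge)).symm)
  have hzM : MulAut.conj z • M = M := Subgroup.conj_smul_eq_self_of_mem (hsM.le hz.1)
  have hfix := h.fixCore_eq hS hM hz hz1
  set Za := (QM ⊓ centralizer (M : Set G)) ⊓ normalizer (J : Set G) with hZa
  set Zb := (QJ ⊓ centralizer (J : Set G)) ⊓ normalizer (M : Set G) with hZb
  have hzZa : z ∈ Za := ⟨hz, conj_smul_eq_iff.1 hzJ⟩
  -- closure on the side of `M`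
  have hclM : ∀ f ∈ QM ⊓ centralizer (M : Set G), (∀ e ∈ Zb, Commute e f) → f ∈ Za := by
    intro f hf hfc
    refine ⟨hf, ?_⟩
    by_cases hZJ : QJ ⊓ centralizer (J : Set G) = ⊥
    · -- `J` normalises `R`
      have hQab : ∀ x ∈ QJ, ∀ y ∈ QJ, Commute x y := fun x hx y hy => commutatorElement_eq_one_iff_commute.1
        (Subgroup.mem_bot.1 (hZJ ▸ h.comm_central hS hJ hsJ hA hAJ hx hy))
      have hJR : J ≤ normalizer (R : Set G) := by
        rw [← hsJ.sup A hA hAJ]
        refine sup_le (fun x hx => ?_) hAR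
        rw [Subgroup.mem_normalizer_iff]
        intro y
        constructor
        · intro hy; rw [(hQab x hx y (hRJ hy)).eq, mul_inv_cancel_right]; exact hy
        · intro hy
          have := hQab x hx _ (hRJ hy)
          rw [show y = x⁻¹ * (x * y * x⁻¹) * x by group, mul_assoc, ← this.eq, inv_mul_cancel_left]
          exact hy
      have hnR : ∀ c ∈ QM ⊓ centralizer (M : Set G), c ∈ normalizer (R : Set G) := by
        intro c hc
        rw [← conj_smul_eq_iff]
        refine Subgroup.eq_of_le_of_card_ge (fun y hy => ?_) (card_conj_smul c R).ge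
        rw [mem_conj_smul_iff] at hy
        have := Subgroup.mem_centralizer_iff.1 hc.2 _ (hYM (hsY.le hy))
        rw [show y = c * (c⁻¹ * y * c) * c⁻¹ by group, ← this, mul_inv_cancel_right]
        exact hy
      set J₀ := core D (normalizer (R : Set G)) with hJ₀
      have hJJ₀ : J ≤ J₀ := hJ.trans (sSup_le fun C hC => le_core hC.1 (hC.2.trans hJR))
      have hJ₀ne : J₀ ≠ ⊤ := by
        intro e
        haveI : R.Normal := Subgroup.normalizer_eq_top_iff.1 (top_le_iff.1 (e ▸ core_le D _))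
        exact hR1 (h.q_normal_bot inferInstance hsY.isP)
      have he : J₀ = J := by
        by_contra hne
        exact hJM (hJJ₀.trans (bigger J₀ (isGen_core _ _) hJ₀ne (h.conj_core_eq (Subgroup.le_normalizer (hnR z hz)))
          (core_mono (inf_le_inf_left M hJJ₀)) (Or.inr (lt_of_le_of_ne hJJ₀ (Ne.symm hne)))))
      show f ∈ normalizer (J : Set G)
      rw [← conj_smul_eq_iff, ← he]
      exact h.conj_core_eq (Subgroup.le_normalizer (hnR f hf))
    · -- a fixed point of `z` in the centre of `J`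
      have hzN : zpowers z ≤ normalizer ((QJ ⊓ centralizer (J : Set G) : Subgroup G) : Set G) := by
        rw [zpowers_le]
        refine Subgroup.inf_normalizer_le_normalizer_inf ⟨h.norm_Q hsJ hA hAJ hzJ, ?_⟩
        show z ∈ normalizer ((centralizer (J : Set G) : Subgroup G) : Set G)
        rw [← conj_smul_eq_iff]
        refine Subgroup.eq_of_le_of_card_ge (fun y hy => ?_) (card_conj_smul z _).ge
        rw [mem_conj_smul_iff] at hy
        intro x hx
        have hx' : z⁻¹ * x * z ∈ J := by rw [← mem_conj_smul_iff, hzJ]; exact hx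
        have := Subgroup.mem_centralizer_iff.1 hy _ hx'
        calc x * y = z * (z⁻¹ * x * z * (z⁻¹ * y * z)) * z⁻¹ := by group
          _ = z * (z⁻¹ * y * z * (z⁻¹ * x * z)) * z⁻¹ := by rw [this]
          _ = y * x := by group
      obtain ⟨z', hz', hz'1, hz'c⟩ := exists_fixed_coset (hsM.isP.to_le (zpowers_le.2 hz.1))
        (hsJ.isP.to_le inf_le_left) bot_le (Ne.symm hZJ) hzN ((le_top).trans_eq (Subgroup.normalizer_eq_top ⊥).symm)
      have hzz' : Commute z z' := by
        have := Subgroup.mem_bot.1 (hz'c z (mem_zpowers z))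
        rw [inv_mul_eq_one, eq_comm, mul_inv_eq_iff_eq_mul] at this
        exact this
      rw [Subgroup.mem_bot] at hz'1
      have hJ₀ : J ≤ fixCore D z' := hJ.trans (sSup_le fun C hC =>
        h.le_fixCore hC.1 fun c hc => (Subgroup.mem_centralizer_iff.1 hz'.2 c (hC.2 hc)).symm)
      have he : fixCore D z' = J := by
        by_contra hne
        exact hJM (hJ₀.trans (bigger _ (isGen_core _ _) (h.fixCore_ne_top hz'1) (h.conj_fixCore hzz')
          (core_mono (inf_le_inf_left M hJ₀)) (Or.inr (lt_of_le_of_ne hJ₀ (Ne.symm hne)))))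
      have hz'Zb : z' ∈ Zb := ⟨hz', by
        show z' ∈ normalizer (M : Set G)
        rw [← conj_smul_eq_iff, ← hfix]; exact h.conj_fixCore hzz'.symm⟩
      show f ∈ normalizer (J : Set G)
      rw [← conj_smul_eq_iff, ← he]
      exact h.conj_fixCore (hfc z' hz'Zb).symm
  have hclJ : ∀ f ∈ QJ ⊓ centralizer (J : Set G), (∀ e ∈ Za, Commute e f) → f ∈ Zb := by
    intro f hf hfc
    refine ⟨hf, ?_⟩
    show f ∈ normalizer (M : Set G)
    rw [← conj_smul_eq_iff, ← hfix]
    exact h.conj_fixCore (hfc z hzZa).symm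
  have hZaY : ∀ e ∈ Za, ∀ y ∈ R ⊔ A, Commute e y := fun e he y hy =>
    (Subgroup.mem_centralizer_iff.1 he.1.2 y (hYM (hRA ▸ hy))).symm
  have hZbY : ∀ e ∈ Zb, ∀ y ∈ R ⊔ A, Commute e y := fun e he y hy =>
    (Subgroup.mem_centralizer_iff.1 he.1.2 y (hYJ (hRA ▸ hy))).symm
  obtain ⟨B₁, hB₁, hB₁M, hB₁Y, hB₁E⟩ := h.side hS hM.isGen hsM hA hAM hRM hAR hRab
    (fun e => hJM (by
      rw [hRA] at e
      exact (hM.eq_of_le J hJ hJne (e ▸ hYJ)).le))
    (inf_le_left : Za ≤ _) (hsJ.isP.to_le (inf_le_left.trans inf_le_left)) inf_le_right hZbY hclM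
  obtain ⟨B₂, hB₂, hB₂J, hB₂Y, hB₂E⟩ := h.side hS hJ hsJ hA hAJ hRJ hAR hRab
    (fun e => hJM (by rw [hRA] at e; exact e ▸ hYM))
    (inf_le_left : Zb ≤ _) (hsM.isP.to_le (inf_le_left.trans inf_le_left)) inf_le_right hZaY hclJ
  rw [sup_comm Zb Za] at hB₂E
  set E := R ⊔ (Za ⊔ Zb) with hE
  have hcentR : ∀ r ∈ R, E ≤ centralizer ({r} : Set G) := by
    intro r hr
    refine sup_le (fun x hx => ?_) (sup_le (fun x hx => ?_) (fun x hx => ?_))
    · exact Subgroup.mem_centralizer_singleton_iff.2 (hRab x hx r hr).eq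
    · exact Subgroup.mem_centralizer_singleton_iff.2 (hZaY x hx r (Subgroup.mem_sup_left hr)).eq
    · exact Subgroup.mem_centralizer_singleton_iff.2 (hZbY x hx r (Subgroup.mem_sup_left hr)).eq
  set J' := core D (normalizer (E : Set G)) with hJ'
  have hJ'ne : J' ≠ ⊤ := by
    intro e
    haveI hEn : E.Normal := Subgroup.normalizer_eq_top_iff.1 (top_le_iff.1 (e ▸ core_le D _))
    let S : Subgroup G :=
      { carrier := {x | x ∈ E ∧ (∀ y ∈ E, Commute x y) ∧ ∃ n, x ^ q ^ n = 1}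
        one_mem' := ⟨one_mem _, fun y _ => Commute.one_left y, 0, by simp⟩
        mul_mem' := by
          rintro a b ⟨ha, hac, i, hi⟩ ⟨hb, hbc, j, hj⟩
          refine ⟨mul_mem ha hb, fun y hy => (hac y hy).mul_left (hbc y hy), i + j, ?_⟩
          rw [(hac b hb).mul_pow, pow_add, pow_mul, hi, one_pow, one_mul, mul_comm, pow_mul, hj, one_pow]
        inv_mem' := by
          rintro a ⟨ha, hac, i, hi⟩
          exact ⟨inv_mem ha, fun y hy => (hac y hy).inv_left, i, by rw [inv_pow, hi, inv_one]⟩ }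
    have hSn : S.Normal := ⟨fun x ⟨hx, hxc, i, hi⟩ g => ⟨hEn.conj_mem x hx g, fun y hy => by
        have := hxc _ (hEn.conj_mem y hy g⁻¹)
        show g * x * g⁻¹ * y = y * (g * x * g⁻¹)
        calc g * x * g⁻¹ * y = g * (x * (g⁻¹ * y * g⁻¹⁻¹)) * g⁻¹ := by group
          _ = g * ((g⁻¹ * y * g⁻¹⁻¹) * x) * g⁻¹ := by rw [this.eq]
          _ = _ := by group, i, by rw [conj_pow, hi]; simp⟩⟩
    have hSb : S = ⊥ := h.q_normal_bot hSn fun x => by
      obtain ⟨i, hi⟩ := x.2.2.2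
      exact ⟨i, Subtype.ext hi⟩
    refine hR1 (le_bot_iff.1 (hSb ▸ fun r hr => ⟨Subgroup.mem_sup_left hr,
      fun y hy => (Subgroup.mem_centralizer_singleton_iff.1 (hcentR r hr hy)).symm, ?_⟩))
    obtain ⟨i, hi⟩ := hsY.isP ⟨r, hr⟩
    exact ⟨i, congrArg Subtype.val hi⟩
  have hzJ' : MulAut.conj z • J' = J' :=
    h.conj_core_eq (Subgroup.le_normalizer (Subgroup.le_normalizer
      (Subgroup.mem_sup_right (Subgroup.mem_sup_left hzZa))))
  have hYJ' : Y ≤ J' := by
    refine (isGen_core D (M ⊓ J)).trans (sSup_le fun C hC => le_core hC.1 ?_)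
    intro c hc
    have hc' : c ∈ R ⊔ A := hRA ▸ hC.2 hc
    refine (sup_le ((le_sup_left : R ≤ E).trans Subgroup.le_normalizer) ?_ : R ⊔ A ≤ normalizer (E : Set G)) hc'
    intro a ha
    rw [← conj_smul_eq_iff]
    refine Subgroup.eq_of_le_of_card_ge ?_ (card_conj_smul a E).ge
    rw [hE, Subgroup.smul_sup, Subgroup.smul_sup, conj_smul_eq_iff.2 (hAR ha)]
    refine sup_le_sup_left (sup_le_sup (fun y hy => ?_) (fun y hy => ?_)) R
    · rw [mem_conj_smul_iff] at hy
      rw [show y = a * (a⁻¹ * y * a) * a⁻¹ by group, ← (hZaY _ hy a (Subgroup.mem_sup_right ha)).eq,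
        mul_inv_cancel_right]
      exact hy
    · rw [mem_conj_smul_iff] at hy
      rw [show y = a * (a⁻¹ * y * a) * a⁻¹ by group, ← (hZbY _ hy a (Subgroup.mem_sup_right ha)).eq,
        mul_inv_cancel_right]
      exact hy
  rw [hRA] at hB₁Y hB₂Y
  have hlt : Y < core D (M ⊓ J') := by
    refine lt_of_le_not_ge ((isGen_core D (M ⊓ J)).trans (core_mono (le_inf hYM hYJ'))) fun hge => hB₁Y ?_
    exact (le_core hB₁ (le_inf hB₁M (le_core hB₁ hB₁E))).trans hge
  have hle := bigger J' (isGen_core _ _) hJ'ne hzJ' hlt.le (Or.inl hlt)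
  exact hB₂Y (le_core hB₂ (le_inf ((le_core hB₂ hB₂E).trans hle) hB₂J))

end Min

end CfsgLib.AfterFT.PairGen
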